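import Mathlib.RingTheory.Ideal.GoingDown
import Mathlib.RingTheory.Flat.FaithfullyFlat.Algebra
import Mathlib.RingTheory.Ideal.AssociatedPrime.Basic
import Mathlib.RingTheory.IsTensorProduct
import Mathlib.LinearAlgebra.TensorProduct.Quotient
import Mathlib.RingTheory.Ideal.AssociatedPrime.Finiteness

/-!
# Associated primes along flat base change
-/

set_option autoImplicit false
set_option linter.unusedSectionVars false

universe u

open TensorProduct

namespace GeomPureLib

variable {F F' M M' : Type u} [CommRing F] [CommRing F'] [Algebra F F'] [AddCommGroup M] [Module F M]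
  [AddCommGroup M'] [Module F' M'] [Module F M'] [IsScalarTower F F' M'] {g : M →ₗ[F] M'}

theorem baseChange_colon (hg : IsBaseChange F' g) [Module.Flat F F'] (x : M) :
    (⊥ : Submodule F' M').colon {g x} = ((⊥ : Submodule F M).colon {x}).map (algebraMap F F') := by
  let J := (⊥ : Submodule F M).colon {x}
  have hJ : ∀ s : F, s ∈ J ↔ s • x = 0 := fun s => by
    rw [Submodule.mem_colon_singleton, Submodule.mem_bot]
  let e : F ⧸ J →ₗ[F] M := Submodule.liftQ J (LinearMap.toSpanSingleton F M x) fun s hs => (hJ s).1 hs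
  have he : Function.Injective e := LinearMap.ker_eq_bot.1 (Submodule.ker_liftQ_eq_bot _ _ _
    fun s hs => (hJ s).2 hs)
  refine le_antisymm (fun c hc => ?_) (Ideal.map_le_iff_le_comap.2 fun s hs => ?_)
  · rw [Submodule.mem_colon_singleton, Submodule.mem_bot] at hc
    have h1 : e.lTensor F' (c ⊗ₜ[F] Submodule.Quotient.mk 1) = 0 := by
      refine hg.equiv.injective ?_
      rw [LinearMap.lTensor_tmul, map_zero, hg.equiv_tmul]
      rw [show e (Submodule.Quotient.mk 1) = x from one_smul F x]
      exact hc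
    have h2 : c ⊗ₜ[F] (Submodule.Quotient.mk 1 : F ⧸ J) = 0 :=
      Module.Flat.lTensor_preserves_injective_linearMap e he (by rw [h1, map_zero])
    have h3 := congrArg (TensorProduct.tensorQuotEquivQuotSMul F' J) h2
    rw [map_zero] at h3
    have h4 : (Submodule.Quotient.mk ((1 : F) • c) : F' ⧸ (J • ⊤ : Submodule F F')) = 0 :=
      (TensorProduct.tensorQuotEquivQuotSMul_tmul_mk J c 1).symm.trans h3
    rw [one_smul, Submodule.Quotient.mk_eq_zero, Ideal.smul_top_eq_map] at h4
    exact h4
  · rw [Ideal.mem_comap, Submodule.mem_colon_singleton, Submodule.mem_bot, algebraMap_smul, ← map_smul,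
      (hJ s).1 hs, map_zero]

theorem exists_mem_associatedPrimes (hg : IsBaseChange F' g) [Module.FaithfullyFlat F F'] [IsNoetherianRing F]
    [IsNoetherianRing F'] {q : Ideal F} (hq : q ∈ associatedPrimes F M) :
    ∃ Q ∈ associatedPrimes F' M', Q.comap (algebraMap F F') = q := by
  haveI := hq.1
  obtain ⟨-, x, hx⟩ := isAssociatedPrime_iff.1 hq
  have hne : (⊥ : Submodule F' M').colon {g x} ≠ ⊤ := fun h => by
    refine Ideal.IsPrime.ne_top (I := q) inferInstance ?_
    rw [baseChange_colon hg, ← hx] at h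
    rw [← q.comap_map_eq_self_of_faithfullyFlat (B := F'), h, Ideal.comap_top]
  obtain ⟨Q, hQmin⟩ := Ideal.nonempty_minimalPrimes hne
  obtain ⟨y, hy⟩ := Submodule.exists_eq_colon_of_mem_minimalPrimes hQmin
  haveI : Q.IsPrime := hQmin.1.1
  refine ⟨Q, isAssociatedPrime_iff.2 ⟨inferInstance, y, hy⟩, ?_⟩
  have hle : q.map (algebraMap F F') ≤ Q := by
    have := hQmin.1.2
    rwa [baseChange_colon hg, ← hx] at this
  refine le_antisymm ?_ (Ideal.map_le_iff_le_comap.1 hle)
  obtain ⟨Q', hQ'le, hQ'p, hQ'over⟩ :=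
    Ideal.exists_ideal_le_liesOver_of_le (p := q) (q := Q.comap (algebraMap F F')) Q (Ideal.map_le_iff_le_comap.1 hle)
  have hmem : Q' ∈ {p : Ideal F' | p.IsPrime ∧ (⊥ : Submodule F' M').colon {g x} ≤ p} := by
    refine ⟨hQ'p, ?_⟩
    rw [baseChange_colon hg, ← hx, Ideal.map_le_iff_le_comap]
    exact hQ'over.over.le
  have := le_antisymm (hQmin.2 hmem hQ'le) hQ'le
  rw [this]
  exact hQ'over.over.ge

theorem comap_mem_associatedPrimes (hg : IsBaseChange F' g) [Module.Flat F F'] [IsNoetherianRing F]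
    [IsNoetherianRing F'] [Module.Finite F M] {Q : Ideal F'} (hQ : Q ∈ associatedPrimes F' M') :
    Q.comap (algebraMap F F') ∈ associatedPrimes F M := by
  classical
  haveI := hQ.1
  set q := Q.comap (algebraMap F F') with hqdef
  by_contra hq
  obtain ⟨s, hs, hs'⟩ : ∃ s ∈ q, ∀ P ∈ associatedPrimes F M, P ≤ q → s ∉ P := by
    by_contra! hno
    have hfin := associatedPrimes.finite F M
    obtain ⟨P, hP, hqP⟩ := (Ideal.subset_union_prime (s := hfin.toFinset.filter (· ≤ q)) (f := id) q q
      fun P hP _ _ => ((hfin.mem_toFinset.1 (Finset.mem_filter.1 hP).1)).1).1 (fun s hs => by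
        obtain ⟨P, hP, hPq, hsP⟩ := hno s hs
        exact Set.mem_biUnion (Finset.mem_coe.2 (Finset.mem_filter.2 ⟨hfin.mem_toFinset.2 hP, hPq⟩)) hsP)
    rw [Finset.mem_filter, hfin.mem_toFinset] at hP
    exact hq (le_antisymm hqP hP.2 ▸ hP.1)
  let K := LinearMap.ker (LinearMap.lsmul F M s)
  have hK : ∀ n ∈ K, ∃ u ∉ q, u • n = 0 := by
    intro n hn
    by_contra! hno
    have hle : (⊥ : Submodule F M).colon {n} ≤ q := fun u hu => by
      by_contra hu'
      exact hno u hu' (by simpa using Submodule.mem_colon_singleton.1 hu)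
    obtain ⟨P, hPmin, hPq⟩ := Ideal.exists_minimalPrimes_le hle
    obtain ⟨y, hy⟩ := Submodule.exists_eq_colon_of_mem_minimalPrimes hPmin
    exact hs' P (isAssociatedPrime_iff.2 ⟨hPmin.1.1, y, hy⟩) hPq
      (hPmin.1.2 (Submodule.mem_colon_singleton.2 (by rw [Submodule.mem_bot]; exact hn)))
  obtain ⟨u, hu, huK⟩ : ∃ u ∉ q, ∀ n ∈ K, u • n = 0 := by
    obtain ⟨t, ht⟩ := IsNoetherian.noetherian K
    choose u hu hun using fun n : t => hK n.1 (ht ▸ Submodule.subset_span n.2)
    refine ⟨∏ n, u n, fun h => ?_, fun n hn => ?_⟩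
    · obtain ⟨n, -, hn⟩ := (Ideal.IsPrime.prod_mem_iff).1 h
      exact hu n hn
    · refine Submodule.span_induction (p := fun m _ => (∏ n, u n) • m = 0) (fun m hm => ?_) (smul_zero _)
        (fun a b _ _ ha hb => by rw [smul_add, ha, hb, add_zero])
        (fun c a _ ha => by rw [smul_comm, ha, smul_zero]) (ht ▸ hn)
      obtain ⟨c, hc⟩ := Finset.dvd_prod_of_mem u (Finset.mem_univ (⟨m, hm⟩ : t))
      rw [hc, mul_comm, mul_smul, hun ⟨m, hm⟩, smul_zero]
  -- the same holds after the base change
  have hker : ∀ y : M', algebraMap F F' s • y = 0 → algebraMap F F' u • y = 0 := by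
    intro y hy
    obtain ⟨w, rfl⟩ := hg.equiv.surjective y
    rw [← map_smul, LinearEquiv.map_eq_zero_iff, algebraMap_smul] at hy
    rw [← map_smul, LinearEquiv.map_eq_zero_iff, algebraMap_smul]
    have hex : Function.Exact (K.subtype.lTensor F') ((LinearMap.lsmul F M s).lTensor F') :=
      Module.Flat.lTensor_exact F' (fun n => ⟨fun h => ⟨⟨n, h⟩, rfl⟩, fun ⟨k, hk⟩ => hk ▸ k.2⟩)
    have hl : ∀ (c : F) (z : F' ⊗[F] M), (LinearMap.lsmul F M c).lTensor F' z = c • z := fun c z => by
      induction z using TensorProduct.induction_on with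
      | zero => simp
      | tmul a n => simp [TensorProduct.tmul_smul]
      | add a b ha hb => rw [map_add, ha, hb, smul_add]
    obtain ⟨v, rfl⟩ := (hex w).1 (by rw [hl, hy])
    rw [← hl, ← LinearMap.comp_apply, ← LinearMap.lTensor_comp]
    rw [show (LinearMap.lsmul F M u).comp K.subtype = 0 from LinearMap.ext fun k => huK k.1 k.2]
    simp
  obtain ⟨-, x, hx⟩ := isAssociatedPrime_iff.1 hQ
  have hsx : algebraMap F F' s • x = 0 := by
    have : algebraMap F F' s ∈ Q := hs
    rw [hx, Submodule.mem_colon_singleton, Submodule.mem_bot] at this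
    exact this
  refine hu ?_
  show algebraMap F F' u ∈ Q
  rw [hx, Submodule.mem_colon_singleton, Submodule.mem_bot]
  exact hker x hsx

end GeomPureLib
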