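import Groth.Agent.GeomPureLib.Impurity.Fibre

/-!
# Moving impurities along base change
-/

set_option autoImplicit false
set_option backward.isDefEq.respectTransparency false
set_option linter.style.haveILetI false
set_option linter.unusedSectionVars false

universe u

open TensorProduct

noncomputable section

namespace GeomPureLib

/-- The closure of a prime misses a fibre exactly when the comaximality witness exists. -/
theorem forall_not_liesOver_iff {A' B' : Type u} [CommRing A'] [CommRing B'] [Algebra A' B'] (t : Ideal A') [t.IsPrime]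
    (P : Ideal B') :
    (∀ (P' : Ideal B') [P'.IsPrime], P ≤ P' → ¬ P'.LiesOver t) ↔
      ∃ a ∉ t, algebraMap A' B' a ∈ P ⊔ t.map (algebraMap A' B') := by
  let T := Submonoid.map (algebraMap A' B') t.primeCompl
  constructor
  · intro h
    have hmeet : ¬ Disjoint ((P ⊔ t.map (algebraMap A' B') : Ideal B') : Set B') (T : Set B') := fun hd => by
      obtain ⟨P', hP', hle, hd'⟩ := Ideal.exists_le_prime_disjoint _ _ hd
      haveI := hP'
      refine h P' (le_trans le_sup_left hle) ⟨le_antisymm (fun a ha => hle (Submodule.mem_sup_right (Ideal.mem_map_of_mem _ ha)))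
        fun a ha => ?_⟩
      by_contra hc
      exact Set.disjoint_left.1 hd' ha ⟨a, hc, rfl⟩
    obtain ⟨_, hw, a, ha, rfl⟩ := Set.not_disjoint_iff.1 hmeet
    exact ⟨a, ha, hw⟩
  · rintro ⟨a, ha, hmem⟩ P' _ hle hlies
    refine ha ?_
    rw [hlies.over, Ideal.under_def, Ideal.mem_comap]
    exact sup_le hle (Ideal.map_le_iff_le_comap.2 hlies.over.le) hmem

section

variable {A B : Type u} [CommRing A] [CommRing B] [Algebra A B] {N : Type u} [AddCommGroup N] [Module B N]

theorem isImpurity_hasImpurity {p : Ideal A} [p.IsPrime] {A' : Type u} [CommRing A'] [Algebra A A'] {t' t : Ideal A'}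
    [ht' : t'.IsPrime] [ht : t.IsPrime] (h : ¬ NoImp A B N p A' t' t)
    (Q : ∀ (A₁ : Type u) [CommRing A₁] [Algebra A A₁], Ideal A₁ → Prop) (hQ : Q A' t) :
    FlatCA.HasImpurity A B N p Q := by
  by_contra hne
  exact h fun B' N' _ _ _ _ _ _ _ _ _ _ _ _ f P hP himp =>
    hne ⟨A', B', N', inferInstance, inferInstance, inferInstance, inferInstance, inferInstance, inferInstance,
      inferInstance, inferInstance, inferInstance, inferInstance, inferInstance, inferInstance, inferInstance,
      inferInstance, f, t', t, ht', ht, P, hP, himp, hQ⟩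

variable [Algebra.FiniteType A B] [Module.Finite B N]
  {A' A'' : Type u} [CommRing A'] [CommRing A''] [Algebra A A'] [Algebra A A''] [Algebra A' A''] [IsScalarTower A A' A'']

/-- Impurities ascend along base change. -/
theorem impurity_ascend {p : Ideal A} [p.IsPrime] {B' N' : Type u} [CommRing B'] [Algebra B B'] [Algebra A' B']
    [Algebra A B'] [IsScalarTower A B B'] [IsScalarTower A A' B'] [AddCommGroup N'] [Module B' N'] [Module B N']
    [IsScalarTower B B' N'] [Module A' N'] [IsScalarTower A' B' N'] {f : N →ₗ[B] N'} {t' t : Ideal A'} [t'.IsPrime]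
    [t.IsPrime] {P : Ideal B'} [P.IsPrime] (himp : FlatCA.IsImpurity A B N p A' B' N' f t' t P) (u' u : Ideal A'')
    [u'.IsPrime] [u.IsPrime] [u'.LiesOver t'] [u.LiesOver t] (hle : u' ≤ u) : ¬ NoImp A B N p A'' u' u := by
  obtain ⟨hpush, hbc, htt, hto, hPt, hass, hno⟩ := himp
  intro hno'
  haveI := hpush
  haveI : Algebra.IsPushout A A' B B' := hpush.symm
  letI : Algebra B' (A'' ⊗[A'] B') := Algebra.TensorProduct.rightAlgebra
  letI : Algebra B (A'' ⊗[A'] B') := ((algebraMap B' (A'' ⊗[A'] B')).comp (algebraMap B B')).toAlgebra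
  haveI : IsScalarTower B B' (A'' ⊗[A'] B') := IsScalarTower.of_algebraMap_eq' rfl
  haveI : IsScalarTower A B' (A'' ⊗[A'] B') := IsScalarTower.of_algebraMap_eq fun a => by
    rw [IsScalarTower.algebraMap_apply A A' B', ← IsScalarTower.algebraMap_apply A' B' (A'' ⊗[A'] B'),
      ← IsScalarTower.algebraMap_apply A A' (A'' ⊗[A'] B')]
  haveI : IsScalarTower A B (A'' ⊗[A'] B') := IsScalarTower.of_algebraMap_eq fun a => by
    rw [IsScalarTower.algebraMap_apply B B' (A'' ⊗[A'] B'), ← IsScalarTower.algebraMap_apply A B B',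
      ← IsScalarTower.algebraMap_apply A B' (A'' ⊗[A'] B')]
  haveI hpp : Algebra.IsPushout A A'' B (A'' ⊗[A'] B') :=
    (Algebra.IsPushout.comp_iff (R := A) (S := A') (R' := B) (S' := B') (T := A'') (T' := A'' ⊗[A'] B')).2 inferInstance
  haveI : Algebra.FiniteType A' B' :=
    Algebra.FiniteType.equiv (inferInstance : Algebra.FiniteType A' (A' ⊗[A] B))
      (Algebra.IsPushout.equiv A A' B B')
  haveI : Module.Finite B' N' := Module.Finite.equiv hbc.equiv
  let N'' := (A'' ⊗[A'] B') ⊗[B'] N'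
  letI : Module B N'' := Module.compHom N'' (algebraMap B (A'' ⊗[A'] B'))
  haveI : IsScalarTower B (A'' ⊗[A'] B') N'' := IsScalarTower.of_algebraMap_smul fun r x => rfl
  haveI : IsScalarTower B B' N'' := IsScalarTower.of_algebraMap_smul fun r x =>
    (algebraMap_smul (A'' ⊗[A'] B') (algebraMap B B' r) x).symm
  let g : N' →ₗ[B'] N'' := TensorProduct.mk B' (A'' ⊗[A'] B') N' 1
  have hg : IsBaseChange (A'' ⊗[A'] B') g := TensorProduct.isBaseChange _ _ _
  obtain ⟨P'', hP''p, hP''u, hP''P, hass''⟩ := (assFibre_correspond t' u' hg).1 P inferInstance hPt hass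
  haveI := hP''p
  haveI := hto
  refine hno' (A'' ⊗[A'] B') N'' ((g.restrictScalars B).comp f) P''
    ⟨hpp.symm, hbc.comp hg, hle, Ideal.LiesOver.trans u t p, hP''u, hass'', ?_⟩
  rw [forall_not_liesOver_iff]
  obtain ⟨a, ha, hmem⟩ := (forall_not_liesOver_iff t P).1 hno
  refine ⟨algebraMap A' A'' a, fun h => ha (by rw [Ideal.over_def u t]; exact h), ?_⟩
  have h := Ideal.mem_map_of_mem (algebraMap B' (A'' ⊗[A'] B')) hmem
  rw [Ideal.map_sup, Ideal.map_map, ← IsScalarTower.algebraMap_eq, IsScalarTower.algebraMap_eq A' A'' (A'' ⊗[A'] B'),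
    ← Ideal.map_map, ← IsScalarTower.algebraMap_apply A' B' (A'' ⊗[A'] B'),
    IsScalarTower.algebraMap_apply A' A'' (A'' ⊗[A'] B')] at h
  refine (sup_le_sup ?_ (Ideal.map_mono ?_) : _ ≤ P'' ⊔ u.map (algebraMap A'' (A'' ⊗[A'] B'))) h
  · rw [← hP''P]; exact Ideal.map_comap_le
  · exact Ideal.map_le_iff_le_comap.2 (Ideal.over_def u t).le

/-- The canonical map to a model of the base change. -/
def bcHom (B'' : Type u) [CommRing B''] [Algebra B B''] [Algebra A' B''] [Algebra A B''] [IsScalarTower A B B'']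
    [IsScalarTower A A' B''] : A' ⊗[A] B →ₐ[A'] B'' :=
  Algebra.TensorProduct.lift (Algebra.ofId A' B'') (IsScalarTower.toAlgHom A B B'') fun _ _ => Commute.all _ _

theorem bcHom_tmul (B'' : Type u) [CommRing B''] [Algebra B B''] [Algebra A' B''] [Algebra A B'']
    [IsScalarTower A B B''] [IsScalarTower A A' B''] (a : A') (b : B) :
    bcHom (A := A) (B := B) (A' := A') B'' (a ⊗ₜ b) = algebraMap A' B'' a * algebraMap B B'' b :=
  Algebra.TensorProduct.lift_tmul _ _ _ _ _

/-- Impurities descend along base change when the closure condition does. -/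
theorem impurity_descend_of_forall {p : Ideal A} [p.IsPrime] {B'' N'' : Type u} [CommRing B''] [Algebra B B''] [Algebra A'' B'']
    [Algebra A B''] [IsScalarTower A B B''] [IsScalarTower A A'' B''] [AddCommGroup N''] [Module B'' N''] [Module B N'']
    [IsScalarTower B B'' N''] [Module A'' N''] [IsScalarTower A'' B'' N''] {f : N →ₗ[B] N''} {u' u : Ideal A''}
    [u'.IsPrime] [u.IsPrime] {P'' : Ideal B''} [P''.IsPrime]
    (himp : FlatCA.IsImpurity A B N p A'' B'' N'' f u' u P'')
    [Algebra A' B''] [IsScalarTower A' A'' B''] [IsScalarTower A A' B'']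
    (t' t : Ideal A') [t'.IsPrime] [t.IsPrime] [u'.LiesOver t'] [t.LiesOver p] (htle : t' ≤ t)
    (hclo : ∀ (P' : Ideal (A' ⊗[A] B)) [P'.IsPrime], P''.comap (bcHom (A := A) (B := B) B'') ≤ P' → ¬ P'.LiesOver t) :
    ¬ NoImp A B N p A' t' t := by
  obtain ⟨hpush, hbc, -, -, hPt, hass, -⟩ := himp
  intro hno'
  haveI := hpush
  haveI : Algebra.IsPushout A A'' B B'' := hpush.symm
  letI : Algebra B (A' ⊗[A] B) := Algebra.TensorProduct.rightAlgebra
  letI : Algebra (A' ⊗[A] B) B'' := (bcHom (A := A) (B := B) B'').toRingHom.toAlgebra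
  haveI : IsScalarTower A' (A' ⊗[A] B) B'' :=
    IsScalarTower.of_algebraMap_eq fun x => ((bcHom (A := A) (B := B) B'').commutes x).symm
  haveI : IsScalarTower B (A' ⊗[A] B) B'' := IsScalarTower.of_algebraMap_eq fun b => by
    show _ = bcHom (A := A) (B := B) B'' (1 ⊗ₜ b)
    rw [bcHom_tmul, map_one, one_mul]
  haveI : IsScalarTower A (A' ⊗[A] B) B'' := IsScalarTower.of_algebraMap_eq fun x => by
    rw [IsScalarTower.algebraMap_apply A A' (A' ⊗[A] B), ← IsScalarTower.algebraMap_apply A' (A' ⊗[A] B) B'',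
      ← IsScalarTower.algebraMap_apply A A' B'']
  haveI : Algebra.IsPushout A A' B (A' ⊗[A] B) := inferInstance
  haveI hp2 : Algebra.IsPushout A' A'' (A' ⊗[A] B) B'' :=
    (Algebra.IsPushout.comp_iff (R := A) (S := A') (R' := B) (S' := A' ⊗[A] B) (T := A'') (T' := B'')).1 inferInstance
  haveI : Algebra.IsPushout A' (A' ⊗[A] B) A'' B'' := hp2.symm
  let N' := (A' ⊗[A] B) ⊗[B] N
  let f' : N →ₗ[B] N' := TensorProduct.mk B (A' ⊗[A] B) N 1
  have hf' : IsBaseChange (A' ⊗[A] B) f' := TensorProduct.isBaseChange _ _ _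
  letI : Module (A' ⊗[A] B) N'' := Module.compHom N'' (algebraMap (A' ⊗[A] B) B'')
  haveI : IsScalarTower (A' ⊗[A] B) B'' N'' := IsScalarTower.of_algebraMap_smul fun r x => rfl
  haveI : IsScalarTower B (A' ⊗[A] B) N'' := IsScalarTower.of_algebraMap_smul fun b x => by
    rw [← algebraMap_smul B'' (algebraMap B (A' ⊗[A] B) b) x, ← IsScalarTower.algebraMap_apply B (A' ⊗[A] B) B'',
      algebraMap_smul]
  let g : N' →ₗ[A' ⊗[A] B] N'' := hf'.lift f
  have hg : IsBaseChange B'' g := by
    refine IsBaseChange.of_comp hf' ?_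
    rw [IsBaseChange.lift_comp]
    exact hbc
  haveI := hPt
  refine hno' (A' ⊗[A] B) N' f' (P''.comap (algebraMap (A' ⊗[A] B) B''))
    ⟨inferInstance, hf', htle, inferInstance, ⟨?_⟩, (assFibre_correspond t' u' hg).2 P'' inferInstance hPt hass,
      hclo⟩
  · rw [Ideal.over_def u' t', Ideal.over_def P'' u', Ideal.under_def, Ideal.under_def, Ideal.under_def, Ideal.comap_comap,
      Ideal.comap_comap, ← IsScalarTower.algebraMap_eq, ← IsScalarTower.algebraMap_eq]


/-- Impurities descend along base change, given a comaximality witness. -/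
theorem impurity_descend {p : Ideal A} [p.IsPrime] {B'' N'' : Type u} [CommRing B''] [Algebra B B''] [Algebra A'' B'']
    [Algebra A B''] [IsScalarTower A B B''] [IsScalarTower A A'' B''] [AddCommGroup N''] [Module B'' N''] [Module B N'']
    [IsScalarTower B B'' N''] [Module A'' N''] [IsScalarTower A'' B'' N''] {f : N →ₗ[B] N''} {u' u : Ideal A''}
    [u'.IsPrime] [u.IsPrime] {P'' : Ideal B''} [P''.IsPrime]
    (himp : FlatCA.IsImpurity A B N p A'' B'' N'' f u' u P'')
    [Algebra A' B''] [IsScalarTower A' A'' B''] [IsScalarTower A A' B'']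
    (t' t : Ideal A') [t'.IsPrime] [t.IsPrime] [u'.LiesOver t'] [t.LiesOver p] (htle : t' ≤ t)
    {a : A'} (ha : a ∉ t)
    (hmem : algebraMap A' (A' ⊗[A] B) a ∈
      P''.comap (bcHom (A := A) (B := B) B'') ⊔ t.map (algebraMap A' (A' ⊗[A] B))) :
    ¬ NoImp A B N p A' t' t :=
  impurity_descend_of_forall himp t' t htle ((forall_not_liesOver_iff t _).2 ⟨a, ha, hmem⟩)

end

end GeomPureLib
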