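import Groth.Agent.GeomPureLib.Impurity.Basic
import Mathlib.LinearAlgebra.TensorProduct.DirectLimit

/-!
# Impurities descend to a stage of a directed colimit
-/

set_option autoImplicit false
set_option backward.isDefEq.respectTransparency false
set_option linter.style.haveILetI false
set_option linter.unusedSectionVars false

universe u

open TensorProduct

noncomputable section

namespace GeomPureLib

variable {A : Type u} [CommRing A] {ι : Type u} [Preorder ι] (G : ι → Type u) [∀ i, CommRing (G i)]
  [∀ i, Algebra A (G i)] (g : ∀ i j, i ≤ j → G i →ₐ[A] G j) (A' : Type u) [CommRing A'] [Algebra A A']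
  [∀ i, Algebra (G i) A'] [∀ i, IsScalarTower A (G i) A']

/-- The map from a stage to the colimit, tensored. -/
def stageMap (B : Type u) [CommRing B] [Algebra A B] (i : ι) : G i ⊗[A] B →ₐ[A] A' ⊗[A] B :=
  Algebra.TensorProduct.map (IsScalarTower.toAlgHom A (G i) A') (AlgHom.id A B)

/-- Elements of a tensor product with a directed colimit come from stages, with kernels. -/
theorem colim_tensor (hcolim : FlatCA.IsDirectedColimitRing G (fun i j h => (g i j h).toRingHom) A')
    (M : Type u) [AddCommGroup M] [Module A M] :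
    (∀ z : A' ⊗[A] M, ∃ (i : ι) (x : G i ⊗[A] M), (IsScalarTower.toAlgHom A (G i) A').toLinearMap.rTensor M x = z) ∧
    (∀ (i : ι) (x : G i ⊗[A] M), (IsScalarTower.toAlgHom A (G i) A').toLinearMap.rTensor M x = 0 →
      ∃ (j : ι) (h : i ≤ j), (g i j h).toLinearMap.rTensor M x = 0) := by
  classical
  obtain ⟨hdir, hne, hid, hcomp, hcompat, hsurj, hzero⟩ := hcolim
  haveI := hne
  haveI := hdir
  let f : ∀ i j, i ≤ j → G i →ₗ[A] G j := fun i j h => (g i j h).toLinearMap
  haveI : DirectedSystem G (f · · ·) := ⟨fun i x => RingHom.congr_fun (hid i) x,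
    fun _ _ _ hij hjk x => RingHom.congr_fun (hcomp _ _ _ hij hjk) x⟩
  let e₀ : Module.DirectLimit G f →ₗ[A] A' := Module.DirectLimit.lift A ι G f
    (fun i => (IsScalarTower.toAlgHom A (G i) A').toLinearMap) fun i j h x => RingHom.congr_fun (hcompat i j h) x
  have hbij : Function.Bijective e₀ := by
    constructor
    · rw [injective_iff_map_eq_zero]
      intro z hz
      obtain ⟨i, x, rfl⟩ := Module.DirectLimit.exists_of z
      rw [Module.DirectLimit.lift_of] at hz
      obtain ⟨j, h, hj⟩ := hzero i x hz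
      rw [← Module.DirectLimit.of_f (f := f) (hij := h)]
      show Module.DirectLimit.of A ι G f j ((g i j h).toRingHom x) = 0
      rw [hj, map_zero]
    · intro a
      obtain ⟨i, x, rfl⟩ := hsurj a
      exact ⟨Module.DirectLimit.of A ι G f i x, Module.DirectLimit.lift_of _ _ _⟩
  let E := ((LinearEquiv.ofBijective e₀ hbij).symm.rTensor M).trans (TensorProduct.directLimitLeft f M)
  have key : ∀ (i : ι) (x : G i ⊗[A] M),
      E ((IsScalarTower.toAlgHom A (G i) A').toLinearMap.rTensor M x) = Module.DirectLimit.of A ι (G · ⊗[A] M) (fun i j h => (f i j h).rTensor M) i x := fun i x => by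
    rw [LinearEquiv.trans_apply, ← TensorProduct.directLimitLeft_rTensor_of f M]
    congr 1
    induction x using TensorProduct.induction_on with
    | zero => simp
    | add a b ha hb => simp only [map_add, ha, hb]
    | tmul r m =>
      rw [LinearMap.rTensor_tmul, LinearMap.rTensor_tmul, LinearEquiv.rTensor_tmul]
      congr 1
      rw [LinearEquiv.symm_apply_eq]
      simp [e₀]
  constructor
  · intro z
    obtain ⟨i, x, hx⟩ := Module.DirectLimit.exists_of (E z)
    exact ⟨i, x, E.injective (by rw [key, hx])⟩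
  · intro i x hx
    have h0 : Module.DirectLimit.of A ι (G · ⊗[A] M) (fun i j h => (f i j h).rTensor M) i x = 0 := by
      rw [← key, hx, map_zero]
    exact Module.DirectLimit.of.zero_exact h0

theorem exists_stage_impurity (hcolim : FlatCA.IsDirectedColimitRing G (fun i j h => (g i j h).toRingHom) A')
    {B : Type u} [CommRing B] [Algebra A B] [Algebra.FiniteType A B] {N : Type u} [AddCommGroup N] [Module B N]
    [Module.Finite B N] {p : Ideal A} [p.IsPrime] {B' N' : Type u} [CommRing B'] [Algebra B B'] [Algebra A' B']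
    [Algebra A B'] [IsScalarTower A B B'] [IsScalarTower A A' B'] [AddCommGroup N'] [Module B' N'] [Module B N']
    [IsScalarTower B B' N'] [Module A' N'] [IsScalarTower A' B' N'] {f : N →ₗ[B] N'} {t' t : Ideal A'} [t'.IsPrime]
    [t.IsPrime] {P : Ideal B'} [P.IsPrime] (himp : FlatCA.IsImpurity A B N p A' B' N' f t' t P) :
    ∃ i, ¬ NoImp A B N p (G i) (t'.comap (algebraMap (G i) A')) (t.comap (algebraMap (G i) A')) := by
  classical
  obtain ⟨hex, hzero⟩ := colim_tensor G g A' hcolim B
  obtain ⟨hdir, hne, hid, hcomp, hcompat, hsurj, hz⟩ := hcolim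
  haveI := hne
  haveI := hdir
  have himp' := himp
  obtain ⟨hpush, hbc, htt, hto, hPt, hass, hno⟩ := himp'
  haveI := hpush
  haveI : Algebra.IsPushout A A' B B' := hpush.symm
  let ε := bcHom (A := A) (B := B) (A' := A') B'
  have hε : Function.Bijective ε := by
    have : (ε : A' ⊗[A] B → B') = Algebra.IsPushout.equiv A A' B B' := funext fun z => by
      induction z using TensorProduct.induction_on with
      | zero => simp
      | add a b ha hb => simp only [map_add, ha, hb]
      | tmul a b => rw [bcHom_tmul, Algebra.IsPushout.equiv_tmul]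
    rw [this]; exact (Algebra.IsPushout.equiv A A' B B').bijective
  let σ : ∀ j, G j ⊗[A] B →+* B' := fun j => ε.toRingHom.comp (stageMap G A' B j).toRingHom
  have hstage : ∀ (j : ι) x, (IsScalarTower.toAlgHom A (G j) A').toLinearMap.rTensor B x = stageMap G A' B j x :=
    fun j x => by
      induction x using TensorProduct.induction_on with
      | zero => simp
      | add a b ha hb => simp only [map_add, ha, hb]
      | tmul a b => simp [stageMap]
  have hσalg : ∀ (j : ι) (c : G j), σ j (algebraMap (G j) (G j ⊗[A] B) c) = algebraMap A' B' (algebraMap (G j) A' c) :=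
    fun j c => by
      show ε (stageMap G A' B j (c ⊗ₜ 1)) = _
      rw [stageMap, Algebra.TensorProduct.map_tmul, bcHom_tmul]
      simp
  have hlift : ∀ b : B', ∃ i, ∀ j, i ≤ j → ∃ x : G j ⊗[A] B, σ j x = b := by
    intro b
    obtain ⟨z, rfl⟩ := hε.surjective b
    obtain ⟨i, x, rfl⟩ := hex z
    refine ⟨i, fun j hij => ⟨(g i j hij).toLinearMap.rTensor B x, ?_⟩⟩
    show ε _ = _
    congr 1
    show stageMap G A' B j _ = _
    rw [← hstage]
    induction x using TensorProduct.induction_on with
    | zero => simp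
    | add a b ha hb => simp only [map_add, ha, hb]
    | tmul a b =>
      rw [LinearMap.rTensor_tmul, LinearMap.rTensor_tmul, LinearMap.rTensor_tmul]
      congr 1
      exact RingHom.congr_fun (hcompat i j hij) a
  obtain ⟨a, ha, hmem⟩ := (forall_not_liesOver_iff t P).1 hno
  obtain ⟨s, hs, y, hy, hsy⟩ := Submodule.mem_sup.1 hmem
  have hy' : ∃ i, ∀ j, i ≤ j → ∃ x ∈ (t.comap (algebraMap (G j) A')).map (algebraMap (G j) (G j ⊗[A] B)), σ j x = y := by
    clear hsy
    induction hy using Submodule.span_induction with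
    | mem b hb =>
      obtain ⟨c, hc, rfl⟩ := hb
      obtain ⟨i, ci, rfl⟩ := hsurj c
      refine ⟨i, fun j hij => ?_⟩
      have hcj : algebraMap (G j) A' (g i j hij ci) = algebraMap (G i) A' ci := RingHom.congr_fun (hcompat i j hij) ci
      exact ⟨_, Ideal.mem_map_of_mem _ (show g i j hij ci ∈ t.comap _ by rw [Ideal.mem_comap, hcj]; exact hc),
        by rw [hσalg, hcj]⟩
    | zero => exact ⟨Classical.arbitrary ι, fun j _ => ⟨0, Submodule.zero_mem _, map_zero _⟩⟩
    | add b c _ _ hb hc =>
      obtain ⟨i, hi⟩ := hb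
      obtain ⟨k, hk⟩ := hc
      obtain ⟨l, hil, hkl⟩ := exists_ge_ge i k
      refine ⟨l, fun j hj => ?_⟩
      obtain ⟨x, hx, rfl⟩ := hi j (hil.trans hj)
      obtain ⟨z, hz, rfl⟩ := hk j (hkl.trans hj)
      exact ⟨x + z, add_mem hx hz, map_add _ _ _⟩
    | smul c b _ hb =>
      obtain ⟨i, hi⟩ := hb
      obtain ⟨k, hk⟩ := hlift c
      obtain ⟨l, hil, hkl⟩ := exists_ge_ge i k
      refine ⟨l, fun j hj => ?_⟩
      obtain ⟨x, hx, rfl⟩ := hi j (hil.trans hj)
      obtain ⟨z, rfl⟩ := hk j (hkl.trans hj)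
      exact ⟨z * x, Ideal.mul_mem_left _ z hx, map_mul _ _ _⟩
  obtain ⟨i₁, hi₁⟩ := hy'
  obtain ⟨i₂, hi₂⟩ := hlift s
  obtain ⟨i₃, a₃, rfl⟩ := hsurj a
  obtain ⟨i₄, h14, h24⟩ := exists_ge_ge i₁ i₂
  obtain ⟨i₅, h45, h35⟩ := exists_ge_ge i₄ i₃
  obtain ⟨yj, hyj, hyj'⟩ := hi₁ i₅ (h14.trans h45)
  obtain ⟨sj, hsj⟩ := hi₂ i₅ (h24.trans h45)
  let aj := g i₃ i₅ h35 a₃
  have haj : algebraMap (G i₅) A' aj = algebraMap (G i₃) A' a₃ := RingHom.congr_fun (hcompat i₃ i₅ h35) a₃
  obtain ⟨k, hk, hk0⟩ := hzero i₅ (sj + yj - algebraMap (G i₅) (G i₅ ⊗[A] B) aj) (by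
    rw [hstage]
    apply hε.injective
    show σ i₅ _ = ε 0
    rw [map_sub, map_add, hsj, hyj', hσalg, haj, hsy, sub_self, map_zero])
  refine ⟨k, ?_⟩
  let τ : G i₅ ⊗[A] B →ₐ[A] G k ⊗[A] B := Algebra.TensorProduct.map (g i₅ k hk) (AlgHom.id A B)
  have hτ : ∀ x, (g i₅ k hk).toLinearMap.rTensor B x = τ x := fun x => by
    induction x using TensorProduct.induction_on with
    | zero => simp
    | add a b ha hb => simp only [map_add, ha, hb]
    | tmul a b => simp [τ]
  rw [hτ, map_sub, map_add, sub_eq_zero] at hk0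
  have hτa : ∀ c, τ (algebraMap (G i₅) (G i₅ ⊗[A] B) c) = algebraMap (G k) (G k ⊗[A] B) (g i₅ k hk c) := fun c => by
    show τ (c ⊗ₜ 1) = (g i₅ k hk c) ⊗ₜ 1
    simp [τ]
  have hστ : ∀ x, σ k (τ x) = σ i₅ x := fun x => by
    show ε (stageMap G A' B k (τ x)) = ε (stageMap G A' B i₅ x)
    congr 1
    induction x using TensorProduct.induction_on with
    | zero => simp
    | add a b ha hb => simp only [map_add, ha, hb]
    | tmul a b =>
      simp only [τ, stageMap, Algebra.TensorProduct.map_tmul]
      congr 1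
      exact RingHom.congr_fun (hcompat i₅ k hk) a
  letI : Algebra (G k) B' := ((algebraMap A' B').comp (algebraMap (G k) A')).toAlgebra
  haveI : IsScalarTower (G k) A' B' := IsScalarTower.of_algebraMap_eq' rfl
  haveI : IsScalarTower A (G k) B' := IsScalarTower.of_algebraMap_eq fun x => by
    rw [IsScalarTower.algebraMap_apply (G k) A' B', ← IsScalarTower.algebraMap_apply A (G k) A',
      ← IsScalarTower.algebraMap_apply A A' B']
  haveI : t'.LiesOver (t'.comap (algebraMap (G k) A')) := ⟨rfl⟩
  haveI : t.LiesOver (t.comap (algebraMap (G k) A')) := ⟨rfl⟩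
  haveI : (t.comap (algebraMap (G k) A')).LiesOver p := ⟨by
    rw [Ideal.under_def, Ideal.comap_comap, ← IsScalarTower.algebraMap_eq]; exact hto.over⟩
  have hbc' : ∀ x, bcHom (A := A) (B := B) (A' := G k) B' x = σ k x := fun x => by
    induction x using TensorProduct.induction_on with
    | zero => simp
    | add a b ha hb => simp only [map_add, ha, hb]
    | tmul c b =>
      show _ = ε (stageMap G A' B k (c ⊗ₜ b))
      rw [stageMap, Algebra.TensorProduct.map_tmul, bcHom_tmul, bcHom_tmul, IsScalarTower.algebraMap_apply (G k) A' B']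
      rfl
  refine impurity_descend himp (t'.comap (algebraMap (G k) A')) (t.comap (algebraMap (G k) A'))
    (Ideal.comap_mono htt) (a := g i₅ k hk aj) (fun h => ha ?_) ?_
  · have : algebraMap (G k) A' (g i₅ k hk aj) = algebraMap (G i₅) A' aj := RingHom.congr_fun (hcompat i₅ k hk) aj
    rw [Ideal.mem_comap, this, haj] at h
    exact h
  · rw [← hτa, ← hk0]
    refine Submodule.add_mem_sup ?_ ?_
    · rw [Ideal.mem_comap, hbc', hστ, hsj]; exact hs
    · have h := Ideal.mem_map_of_mem τ.toRingHom hyj
      rw [Ideal.map_map] at h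
      refine Ideal.map_le_iff_le_comap.2 (fun c hc => ?_) h
      rw [Ideal.mem_comap, RingHom.comp_apply]
      refine (hτa c).symm ▸ ?_
      refine Ideal.mem_map_of_mem _ ?_
      have : algebraMap (G k) A' (g i₅ k hk c) = algebraMap (G i₅) A' c := RingHom.congr_fun (hcompat i₅ k hk) c
      rw [Ideal.mem_comap, this]
      exact hc

end GeomPureLib
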