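import Groth.Agent.GeomPureLib.Impurity.Qf
import Mathlib.RingTheory.Unramified.LocalStructure

/-!
# Purity under flat and quasi-finite base change
-/

set_option autoImplicit false
set_option backward.isDefEq.respectTransparency false
set_option linter.style.haveILetI false
set_option linter.unusedSectionVars false

universe u

open TensorProduct

noncomputable section

namespace GeomPureLib

variable {A B : Type u} [CommRing A] [CommRing B] [Algebra A B] {N : Type u} [AddCommGroup N] [Module B N]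
  {A' B' N' : Type u} [CommRing A'] [CommRing B'] [Algebra A A'] [Algebra B B'] [Algebra A' B'] [Algebra A B']
  [IsScalarTower A B B'] [IsScalarTower A A' B'] [hp : Algebra.IsPushout A B A' B']
  [AddCommGroup N'] [Module B' N'] [Module B N'] [IsScalarTower B B' N'] {f : N →ₗ[B] N'}
  {p : Ideal A} [p.IsPrime] {p' : Ideal A'} [p'.IsPrime] [p'.LiesOver p]
  {A'' : Type u} [CommRing A''] [Algebra A' A''] [Algebra A A''] [IsScalarTower A A' A'']
  {t' t : Ideal A''} [t'.IsPrime] [t.IsPrime]

/-- An impurity of the base change is an impurity. -/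
theorem noImp_baseChange (hf : IsBaseChange B' f) (h : NoImp A B N p A'' t' t) : NoImp A' B' N' p' A'' t' t := by
  intro B'' N'' _ _ _ _ _ _ _ _ _ _ _ _ g P _ ⟨hpush, hbc, htt, hto, hPt, hass, hno⟩
  letI : Algebra B B'' := ((algebraMap B' B'').comp (algebraMap B B')).toAlgebra
  letI : Algebra A B'' := ((algebraMap A' B'').comp (algebraMap A A')).toAlgebra
  letI : Module B N'' := Module.compHom N'' (algebraMap B B'')
  haveI : IsScalarTower A A' B'' := IsScalarTower.of_algebraMap_eq' rfl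
  haveI : IsScalarTower B B' B'' := IsScalarTower.of_algebraMap_eq' rfl
  haveI : IsScalarTower B B'' N'' := IsScalarTower.of_algebraMap_smul fun r x => rfl
  haveI : IsScalarTower B B' N'' := IsScalarTower.of_algebraMap_smul fun r x =>
    (algebraMap_smul B'' (algebraMap B B' r) x).symm
  haveI : IsScalarTower A A'' B'' := IsScalarTower.of_algebraMap_eq fun r => by
    rw [IsScalarTower.algebraMap_apply A A' A'', ← IsScalarTower.algebraMap_apply A' A'' B'',
      ← IsScalarTower.algebraMap_apply A A' B'']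
  haveI : IsScalarTower A B' B'' := IsScalarTower.of_algebraMap_eq fun r => by
    rw [IsScalarTower.algebraMap_apply A A' B', ← IsScalarTower.algebraMap_apply A' B' B'',
      ← IsScalarTower.algebraMap_apply A A' B'']
  haveI : IsScalarTower A B B'' := IsScalarTower.of_algebraMap_eq fun r => by
    rw [IsScalarTower.algebraMap_apply B B' B'', ← IsScalarTower.algebraMap_apply A B B',
      ← IsScalarTower.algebraMap_apply A B' B'']
  haveI : Algebra.IsPushout A A' B B' := hp.symm
  have hcomp : Algebra.IsPushout A B A'' B'' :=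
    ((Algebra.IsPushout.comp_iff (R := A) (S := A') (R' := B) (S' := B') (T := A'') (T' := B'')).2 hpush.symm).symm
  haveI := hto
  exact h B'' N'' ((g.restrictScalars B).comp f) P
    ⟨hcomp, hf.comp hbc, htt, Ideal.LiesOver.trans t p' p, hPt, hass, hno⟩

/-- An impurity over a ring over `A'` is an impurity of the base change to `A'`. -/
theorem noImp_of_baseChange (hf : IsBaseChange B' f) (h : NoImp A' B' N' p' A'' t' t) [t.LiesOver p'] :
    NoImp A B N p A'' t' t := by
  intro B'' N'' _ _ _ _ _ _ _ _ _ _ _ _ g P _ ⟨hpush, hbc, htt, _, hPt, hass, hno⟩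
  haveI : Algebra.IsPushout A A' B B' := hp.symm
  haveI : Algebra.IsPushout A A'' B B'' := hpush.symm
  letI : Algebra A' B'' := ((algebraMap A'' B'').comp (algebraMap A' A'')).toAlgebra
  haveI : IsScalarTower A' A'' B'' := IsScalarTower.of_algebraMap_eq' rfl
  haveI : IsScalarTower A A' B'' := IsScalarTower.of_algebraMap_eq fun r => by
    rw [IsScalarTower.algebraMap_apply A' A'' B'', ← IsScalarTower.algebraMap_apply A A' A'',
      ← IsScalarTower.algebraMap_apply A A'' B'']
  let e := Algebra.IsPushout.equiv A A' B B'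
  let π : B' →ₐ[A'] B'' := (Algebra.TensorProduct.lift (Algebra.ofId A' B'') (IsScalarTower.toAlgHom A B B'')
    fun _ _ => Commute.all _ _).comp e.symm.toAlgHom
  letI : Algebra B' B'' := π.toRingHom.toAlgebra
  haveI : IsScalarTower A' B' B'' := IsScalarTower.of_algebraMap_eq fun x => (π.commutes x).symm
  haveI : IsScalarTower B B' B'' := IsScalarTower.of_algebraMap_eq fun b => by
    show _ = π (algebraMap B B' b)
    have : e.symm (algebraMap B B' b) = 1 ⊗ₜ b := by
      rw [AlgEquiv.symm_apply_eq, Algebra.IsPushout.equiv_tmul, map_one, one_mul]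
    show _ = Algebra.TensorProduct.lift (Algebra.ofId A' B'') (IsScalarTower.toAlgHom A B B'') (fun _ _ => Commute.all _ _) (e.symm (algebraMap B B' b))
    rw [this, Algebra.TensorProduct.lift_tmul, map_one, one_mul]
    rfl
  haveI : IsScalarTower A B' B'' := IsScalarTower.of_algebraMap_eq fun r => by
    rw [IsScalarTower.algebraMap_apply A A' B', ← IsScalarTower.algebraMap_apply A' B' B'',
      ← IsScalarTower.algebraMap_apply A A' B'']
  have hp2 : Algebra.IsPushout A' A'' B' B'' :=
    (Algebra.IsPushout.comp_iff (R := A) (S := A') (R' := B) (S' := B') (T := A'') (T' := B'')).1 inferInstance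
  letI : Module B' N'' := Module.compHom N'' (algebraMap B' B'')
  haveI : IsScalarTower B' B'' N'' := IsScalarTower.of_algebraMap_smul fun r x => rfl
  haveI : IsScalarTower B B' N'' := IsScalarTower.of_algebraMap_smul fun b x => by
    rw [← algebraMap_smul B'' (algebraMap B B' b) x, ← IsScalarTower.algebraMap_apply B B' B'', algebraMap_smul]
  have hg : IsBaseChange B'' (hf.lift g) := by
    refine IsBaseChange.of_comp hf ?_
    rw [IsBaseChange.lift_comp]
    exact hbc
  exact h B'' N'' (hf.lift g) P ⟨hp2.symm, hg, htt, inferInstance, hPt, hass, hno⟩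

variable [Algebra.FiniteType A B] [Module.Finite B N]

theorem isPureAlong_baseChange_of_quasiFinite (hf : IsBaseChange B' f) [Algebra.FiniteType A A']
    [Algebra.QuasiFiniteAt A p'] (h : FlatCA.IsPureAlong A B N p) : FlatCA.IsPureAlong A' B' N' p' := by
  intro A'' B'' N'' _ _ _ _ _ _ _ _ _ _ _ _ _ _ g t' t _ _ P _ het himp
  obtain ⟨hEt, hl, -⟩ := het
  haveI := hEt
  haveI := hl
  letI : Algebra A A'' := ((algebraMap A' A'').comp (algebraMap A A')).toAlgebra
  haveI : IsScalarTower A A' A'' := IsScalarTower.of_algebraMap_eq' rfl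
  haveI : Algebra.FiniteType A A'' := Algebra.FiniteType.trans (inferInstance : Algebra.FiniteType A A') inferInstance
  let := Localization.AtPrime.algebraOfLiesOver p' t
  haveI : Algebra.QuasiFinite A' (Localization.AtPrime t) := Algebra.QuasiFinite.of_isLocalization t.primeCompl
  haveI : Algebra.QuasiFinite A (Localization.AtPrime p') := ‹Algebra.QuasiFiniteAt A p'›
  haveI : Algebra.QuasiFinite (Localization.AtPrime p') (Localization.AtPrime t) :=
    Algebra.QuasiFinite.of_restrictScalars A' (Localization.AtPrime p') (Localization.AtPrime t)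
  haveI : IsScalarTower A (Localization.AtPrime p') (Localization.AtPrime t) := IsScalarTower.of_algebraMap_eq fun r => by
    rw [IsScalarTower.algebraMap_apply A A' (Localization.AtPrime p'), ← IsScalarTower.algebraMap_apply A' (Localization.AtPrime p') (Localization.AtPrime t),
      IsScalarTower.algebraMap_apply A A'' (Localization.AtPrime t), IsScalarTower.algebraMap_apply A A' A'',
      ← IsScalarTower.algebraMap_apply A' A'' (Localization.AtPrime t)]
  haveI : Algebra.QuasiFiniteAt A t :=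
    Algebra.QuasiFinite.trans (R := A) (S := Localization.AtPrime p') (T := Localization.AtPrime t)
  have h1 : ¬ NoImp A' B' N' p' A'' t' t := fun hn => hn B'' N'' g P himp
  have h2 : FlatCA.HasImpurity A B N p (fun A₁ _ _ t₁ => ∃ _ : t₁.IsPrime, Algebra.FiniteType A A₁ ∧ Algebra.QuasiFiniteAt A t₁) :=
    isImpurity_hasImpurity (fun hn => h1 (noImp_baseChange hf hn)) _ ⟨inferInstance, inferInstance, inferInstance⟩
  obtain ⟨A₁, B₁, N₁, _, _, _, _, _, _, _, _, _, _, _, _, _, _, f₁, t₁', t₁, _, _, P₁, _, himp₁, _, het₁⟩ :=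
    hasImpurity_etaleNhd_of_quasiFinite h2
  exact h A₁ B₁ N₁ f₁ t₁' t₁ P₁ het₁ himp₁

omit [Algebra.FiniteType A B] [Module.Finite B N] in
theorem exists_common_field (k K L : Type u) [Field k] [Field K] [Field L] [Algebra k K] [Algebra k L] :
    ∃ (F : Type u) (_ : Field F) (i : K →+* F) (j : L →+* F), i.comp (algebraMap k K) = j.comp (algebraMap k L) := by
  haveI : Nontrivial (K ⊗[k] L) := (Algebra.TensorProduct.includeLeft_injective (R := k) (S := k) (A := K) (B := L)
    (algebraMap k L).injective).nontrivial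
  obtain ⟨m, hm⟩ := Ideal.exists_maximal (K ⊗[k] L)
  refine ⟨(K ⊗[k] L) ⧸ m, Ideal.Quotient.field m,
    (Ideal.Quotient.mk m).comp Algebra.TensorProduct.includeLeftRingHom,
    (Ideal.Quotient.mk m).comp (Algebra.TensorProduct.includeRight : L →ₐ[k] K ⊗[k] L).toRingHom, RingHom.ext fun c => ?_⟩
  show Ideal.Quotient.mk m (algebraMap k K c ⊗ₜ 1) = Ideal.Quotient.mk m (1 ⊗ₜ algebraMap k L c)
  rw [Algebra.algebraMap_eq_smul_one, Algebra.algebraMap_eq_smul_one, TensorProduct.smul_tmul]

omit [Algebra.FiniteType A B] [Module.Finite B N] in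
/-- A point of `A' ⊗ A₁` over two given points with the same image. -/
theorem exists_point_tensor {A₁ : Type u} [CommRing A₁] [Algebra A A₁] (t : Ideal A₁) [t.IsPrime] [t.LiesOver p] :
    ∃ u : Ideal (A' ⊗[A] A₁), ∃ _ : u.IsPrime, u.LiesOver p' ∧
      u.comap (Algebra.TensorProduct.includeRight : A₁ →ₐ[A] A' ⊗[A] A₁).toRingHom = t := by
  let α := Ideal.ResidueField.mapₐ p p' (Algebra.ofId A A') (Ideal.over_def p' p)
  let β := Ideal.ResidueField.mapₐ p t (Algebra.ofId A A₁) (Ideal.over_def t p)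
  letI : Algebra p.ResidueField p'.ResidueField := α.toRingHom.toAlgebra
  letI : Algebra p.ResidueField t.ResidueField := β.toRingHom.toAlgebra
  obtain ⟨F, _, i, j, hij⟩ := exists_common_field p.ResidueField p'.ResidueField t.ResidueField
  let a : A' →+* F := i.comp (algebraMap A' p'.ResidueField)
  let b : A₁ →+* F := j.comp (algebraMap A₁ t.ResidueField)
  letI : Algebra A F := (a.comp (algebraMap A A')).toAlgebra
  have hab : ∀ r, b (algebraMap A A₁ r) = a (algebraMap A A' r) := fun r => by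
    show j (algebraMap A₁ t.ResidueField (algebraMap A A₁ r)) = i (algebraMap A' p'.ResidueField (algebraMap A A' r))
    rw [← IsScalarTower.algebraMap_apply A A' p'.ResidueField, ← IsScalarTower.algebraMap_apply A A₁ t.ResidueField,
      ← α.commutes r, ← β.commutes r]
    exact (RingHom.congr_fun hij (algebraMap A p.ResidueField r)).symm
  let ψ : A' ⊗[A] A₁ →ₐ[A] F := Algebra.TensorProduct.lift ⟨a, fun r => rfl⟩ ⟨b, hab⟩ fun _ _ => Commute.all _ _
  refine ⟨RingHom.ker ψ.toRingHom, RingHom.ker_isPrime _, ⟨?_⟩, ?_⟩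
  · ext x
    rw [Ideal.under_def, Ideal.mem_comap, RingHom.mem_ker]
    show _ ↔ ψ (x ⊗ₜ 1) = 0
    rw [Algebra.TensorProduct.lift_tmul, map_one, mul_one]
    show _ ↔ i (algebraMap A' p'.ResidueField x) = 0
    rw [map_eq_zero, Ideal.algebraMap_residueField_eq_zero]
  · ext x
    rw [Ideal.mem_comap, RingHom.mem_ker]
    show ψ (1 ⊗ₜ x) = 0 ↔ _
    rw [Algebra.TensorProduct.lift_tmul, map_one, one_mul]
    show j (algebraMap A₁ t.ResidueField x) = 0 ↔ _
    rw [map_eq_zero, Ideal.algebraMap_residueField_eq_zero]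

/-- Specializations lift along `A₁ → A' ⊗ A₁` near a point where `A'` is flat over `A`. -/
theorem exists_going_down {A₁ : Type u} [CommRing A₁] [Algebra A A₁] [Module.Flat A (Localization.AtPrime p')]
    (u : Ideal (A' ⊗[A] A₁)) [u.IsPrime] [u.LiesOver p'] (t₁ : Ideal A₁) [t₁.IsPrime]
    (hle : t₁ ≤ u.comap (Algebra.TensorProduct.includeRight : A₁ →ₐ[A] A' ⊗[A] A₁).toRingHom) :
    ∃ u' : Ideal (A' ⊗[A] A₁), ∃ _ : u'.IsPrime, u' ≤ u ∧
      u'.comap (Algebra.TensorProduct.includeRight : A₁ →ₐ[A] A' ⊗[A] A₁).toRingHom = t₁ := by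
  letI : Algebra A₁ (A' ⊗[A] A₁) := Algebra.TensorProduct.rightAlgebra
  let R' := Localization.AtPrime p'
  let C₀ := R' ⊗[A] A₁
  letI : Algebra A₁ C₀ := Algebra.TensorProduct.rightAlgebra
  haveI : Module.Flat A₁ C₀ := Module.Flat.isBaseChange A A₁ R' C₀
    (Algebra.IsPushout.out (R := A) (S := A₁) (R' := R') (S' := C₀))
  let T := Algebra.TensorProduct.map (IsScalarTower.toAlgHom A A' R') (AlgHom.id A A₁)
  letI : Algebra (A' ⊗[A] A₁) (Localization.AtPrime u) := inferInstance
  let Ru := Localization.AtPrime u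
  have hu : ∀ x : p'.primeCompl, IsUnit (algebraMap A' Ru x) := fun x => by
    rw [IsScalarTower.algebraMap_apply A' (A' ⊗[A] A₁) Ru]
    refine IsLocalization.map_units Ru (⟨_, fun h => x.2 ?_⟩ : u.primeCompl)
    exact (SetLike.ext_iff.1 (Ideal.over_def u p') _).2 h
  let l : R' →ₐ[A] Ru := IsLocalization.liftAlgHom (M := p'.primeCompl) (f := IsScalarTower.toAlgHom A A' Ru) hu
  let S : C₀ →ₐ[A] Ru := Algebra.TensorProduct.lift l
    ((IsScalarTower.toAlgHom A (A' ⊗[A] A₁) Ru).comp Algebra.TensorProduct.includeRight) fun _ _ => Commute.all _ _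
  have hST : ∀ z, S (T z) = algebraMap (A' ⊗[A] A₁) Ru z := fun z => by
    induction z using TensorProduct.induction_on with
    | zero => simp
    | add a b ha hb => rw [map_add, map_add, ha, hb, map_add]
    | tmul a b =>
      rw [Algebra.TensorProduct.map_tmul, Algebra.TensorProduct.lift_tmul, IsLocalization.liftAlgHom_apply]
      show IsLocalization.lift hu (algebraMap A' R' a) * algebraMap (A' ⊗[A] A₁) Ru (1 ⊗ₜ b) = _
      rw [IsLocalization.lift_eq, IsScalarTower.algebraMap_apply A' (A' ⊗[A] A₁) Ru, ← map_mul]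
      congr 1
      show (a ⊗ₜ[A] (1 : A₁)) * (1 ⊗ₜ b) = _
      rw [Algebra.TensorProduct.tmul_mul_tmul, mul_one, one_mul]
  let U := (IsLocalRing.maximalIdeal Ru).comap S.toRingHom
  have hU : U.comap T.toRingHom = u := by
    rw [Ideal.comap_comap]
    have : S.toRingHom.comp T.toRingHom = algebraMap (A' ⊗[A] A₁) Ru := RingHom.ext hST
    rw [this]
    exact IsLocalization.AtPrime.under_maximalIdeal Ru u
  haveI : U.LiesOver (u.comap (Algebra.TensorProduct.includeRight : A₁ →ₐ[A] A' ⊗[A] A₁).toRingHom) := ⟨by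
    rw [← hU, Ideal.under_def, Ideal.comap_comap, Ideal.comap_comap, Ideal.comap_comap]
    congr 1
    refine RingHom.ext fun x => ?_
    show S (T (1 ⊗ₜ x)) = S (1 ⊗ₜ x)
    simp [T]⟩
  obtain ⟨U', hU'le, hU'p, hU'o⟩ := Ideal.exists_ideal_le_liesOver_of_le (p := t₁)
    (q := u.comap (Algebra.TensorProduct.includeRight : A₁ →ₐ[A] A' ⊗[A] A₁).toRingHom) U hle
  haveI := hU'p
  refine ⟨U'.comap T.toRingHom, inferInstance, hU ▸ Ideal.comap_mono hU'le, ?_⟩
  conv_rhs => rw [hU'o.over, Ideal.under_def]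
  rw [Ideal.comap_comap]
  congr 1
  refine RingHom.ext fun x => ?_
  show T (1 ⊗ₜ x) = 1 ⊗ₜ x
  simp [T]

theorem isPureAlong_of_flat_baseChange (hf : IsBaseChange B' f) [Module.Flat A (Localization.AtPrime p')] :
    (FlatCA.IsPureAlong A' B' N' p' → FlatCA.IsPureAlong A B N p) ∧
    (FlatCA.IsUnivPureAlong A' B' N' p' → FlatCA.IsUnivPureAlong A B N p) := by
  have main : ∀ (A₁ B₁ N₁ : Type u) [CommRing A₁] [CommRing B₁] [Algebra A A₁] [Algebra B B₁] [Algebra A₁ B₁]
      [Algebra A B₁] [IsScalarTower A B B₁] [IsScalarTower A A₁ B₁] [AddCommGroup N₁] [Module B₁ N₁] [Module B N₁]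
      [IsScalarTower B B₁ N₁] [Module A₁ N₁] [IsScalarTower A₁ B₁ N₁] (f₁ : N →ₗ[B] N₁) (t₁' t₁ : Ideal A₁)
      [t₁'.IsPrime] [t₁.IsPrime] (P₁ : Ideal B₁) [P₁.IsPrime], FlatCA.IsImpurity A B N p A₁ B₁ N₁ f₁ t₁' t₁ P₁ →
      ∃ (u' u : Ideal (A' ⊗[A] A₁)) (_ : u'.IsPrime) (_ : u.IsPrime) (_ : u.LiesOver p'),
        u.comap (Algebra.TensorProduct.includeRight : A₁ →ₐ[A] A' ⊗[A] A₁).toRingHom = t₁ ∧
          ¬ NoImp A' B' N' p' (A' ⊗[A] A₁) u' u := by
    intro A₁ B₁ N₁ _ _ _ _ _ _ _ _ _ _ _ _ _ _ f₁ t₁' t₁ _ _ P₁ _ himp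
    haveI : t₁.LiesOver p := himp.2.2.2.1
    obtain ⟨u, _, hup, hut⟩ := exists_point_tensor (A' := A') (p := p) (p' := p') t₁
    haveI := hup
    obtain ⟨u', _, hu'le, hu't⟩ := exists_going_down (p' := p') u t₁' (hut ▸ himp.2.2.1)
    letI : Algebra A₁ (A' ⊗[A] A₁) := Algebra.TensorProduct.rightAlgebra
    haveI : u'.LiesOver t₁' := ⟨hu't.symm⟩
    haveI : u.LiesOver t₁ := ⟨hut.symm⟩
    exact ⟨u', u, inferInstance, inferInstance, hup, hut,
      fun hn => impurity_ascend himp u' u hu'le (noImp_of_baseChange hf hn)⟩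
  constructor
  · intro h A₁ B₁ N₁ _ _ _ _ _ _ _ _ _ _ _ _ _ _ f₁ t₁' t₁ _ _ P₁ _ het himp
    obtain ⟨u', u, _, _, hup, hut, hN⟩ := main A₁ B₁ N₁ f₁ t₁' t₁ P₁ himp
    obtain ⟨hE, hl, hb⟩ := het
    haveI := hE
    haveI : t₁.LiesOver p := hl
    refine hN fun B'' N'' _ _ _ _ _ _ _ _ _ _ _ _ g Q _ => h (A' ⊗[A] A₁) B'' N'' g u' u Q ⟨inferInstance, hup, ?_⟩
    set φ := Ideal.ResidueField.mapₐ p' u (Algebra.ofId A' (A' ⊗[A] A₁)) hup.over
    refine ⟨φ.toRingHom.injective, ?_⟩
    let ρ : A' ⊗[A] A₁ →+* u.ResidueField := algebraMap _ _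
    have hmem : ∀ z, ρ z ∈ φ.toRingHom.fieldRange := fun z => by
      induction z using TensorProduct.induction_on with
      | zero => rw [map_zero]; exact zero_mem _
      | add a b ha hb => rw [map_add]; exact add_mem ha hb
      | tmul a x =>
        rw [show a ⊗ₜ[A] x = (a ⊗ₜ (1 : A₁)) * (1 ⊗ₜ x) by rw [Algebra.TensorProduct.tmul_mul_tmul, mul_one, one_mul],
          map_mul]
        refine mul_mem ⟨algebraMap A' p'.ResidueField a, φ.commutes a⟩ ?_
        obtain ⟨c, hc⟩ := hb.2 (algebraMap A₁ t₁.ResidueField x)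
        refine ⟨Ideal.ResidueField.mapₐ p p' (Algebra.ofId A A') (Ideal.over_def p' p) c, ?_⟩
        let χ := Ideal.ResidueField.mapₐ t₁ u
          (Algebra.TensorProduct.includeRight : A₁ →ₐ[A] A' ⊗[A] A₁) hut.symm
        have hχ : ∀ d, χ (Ideal.ResidueField.mapₐ p t₁ (Algebra.ofId A A₁) hl.over d) =
            φ (Ideal.ResidueField.mapₐ p p' (Algebra.ofId A A') (Ideal.over_def p' p) d) := fun d => by
          have : χ.comp (Ideal.ResidueField.mapₐ p t₁ (Algebra.ofId A A₁) hl.over) =
              (φ.restrictScalars A).comp (Ideal.ResidueField.mapₐ p p' (Algebra.ofId A A') (Ideal.over_def p' p)) :=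
            Ideal.ResidueField.algHom_ext (Subsingleton.elim _ _)
          exact AlgHom.congr_fun this d
        show φ _ = _
        rw [← hχ, hc]
        exact Ideal.ResidueField.map_algebraMap t₁ u _ hut.symm x
    intro x
    obtain ⟨y, rfl⟩ := IsLocalRing.residue_surjective x
    obtain ⟨y, ⟨s, hs⟩, rfl⟩ := IsLocalization.exists_mk'_eq u.primeCompl y
    obtain ⟨cy, hcy⟩ := hmem y
    obtain ⟨cs, hcs⟩ := hmem s
    refine ⟨cy / cs, ?_⟩
    show φ.toRingHom (cy / cs) = _
    rw [map_div₀, hcy, hcs, div_eq_iff (fun h0 => hs (Ideal.algebraMap_residueField_eq_zero.1 h0))]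
    show ρ y = IsLocalRing.residue _ _ * IsLocalRing.residue _ (algebraMap _ (Localization.AtPrime u) s)
    rw [← map_mul, IsLocalization.mk'_spec]
    rfl
  · intro h A₁ B₁ N₁ _ _ _ _ _ _ _ _ _ _ _ _ _ _ f₁ t₁' t₁ _ _ P₁ _ himp
    obtain ⟨u', u, _, _, hup, -, hN⟩ := main A₁ B₁ N₁ f₁ t₁' t₁ P₁ himp
    exact hN fun B'' N'' _ _ _ _ _ _ _ _ _ _ _ _ g Q _ => h (A' ⊗[A] A₁) B'' N'' g u' u Q

end GeomPureLib
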