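import Groth.Agent.GeomPureLib.Impurity.Ass
import Groth.Agent.GeomPureLib.Closed
import Groth.Agent.FibAssLib.Basic
import Mathlib.RingTheory.Flat.FaithfullyFlat.Algebra

/-!
# Associated points of fibres along a base change
-/

set_option autoImplicit false
set_option backward.isDefEq.respectTransparency false
set_option linter.style.haveILetI false
set_option linter.unusedSectionVars false

universe u

open TensorProduct

noncomputable section

namespace GeomPureLib

/-- A prime of a fibre ring is the extension of its contraction. -/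
theorem fiberIdeal_comap {R S : Type u} [CommRing R] [CommRing S] [Algebra R S] (p : Ideal R) [p.IsPrime]
    (Q : Ideal (p.Fiber S)) : FlatCA.fiberIdeal p (Q.comap (FibAssLib.incl S p)) = Q := by
  refine le_antisymm (Ideal.map_le_iff_le_comap.2 le_rfl) fun x hx => ?_
  obtain ⟨t, ht, s, hs⟩ := FibAssLib.exists_incl_eq p x
  have hsQ : s ∈ Q.comap (FibAssLib.incl S p) := by
    rw [Ideal.mem_comap, ← hs]
    exact Q.mul_mem_left _ hx
  have h2 : FibAssLib.incl S p (algebraMap R S t) * x ∈ FlatCA.fiberIdeal p (Q.comap (FibAssLib.incl S p)) := by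
    rw [hs]
    exact Ideal.mem_map_of_mem _ hsQ
  exact (Ideal.unit_mul_mem_iff_mem _ (FibAssLib.isUnit_incl p ht)).1 h2

/-- Primes of the fibre ring lie over the base point. -/
theorem liesOver_comap_incl {R S : Type u} [CommRing R] [CommRing S] [Algebra R S] (p : Ideal R) [p.IsPrime]
    (Q : Ideal (p.Fiber S)) [Q.IsPrime] : (Q.comap (FibAssLib.incl S p)).LiesOver p := by
  refine ⟨Ideal.ext fun r => ⟨fun hr => ?_, fun hr => ?_⟩⟩
  · show FibAssLib.incl S p (algebraMap R S r) ∈ Q
    rw [show FibAssLib.incl S p (algebraMap R S r) = algebraMap R (p.Fiber S) r from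
      AlgHom.commutes (Algebra.TensorProduct.includeRight (R := R) (A := p.ResidueField) (B := S)) r,
      IsScalarTower.algebraMap_apply R p.ResidueField (p.Fiber S), Ideal.algebraMap_residueField_eq_zero.2 hr, map_zero]
    exact Q.zero_mem
  · by_contra h
    exact Ideal.IsPrime.ne_top ‹Q.IsPrime› (Ideal.eq_top_of_isUnit_mem _ hr (FibAssLib.isUnit_incl p h))

theorem fiberIdeal_comap_eq {R S : Type u} [CommRing R] [CommRing S] [Algebra R S] (p : Ideal R) [p.IsPrime]
    (P : Ideal S) [P.IsPrime] (hP : P.LiesOver p) :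
    (FlatCA.fiberIdeal p P).comap (FibAssLib.incl S p) = P :=
  le_antisymm (fun _ hk => mem_of_includeRight_mem p P hP hk) Ideal.le_comap_map

theorem faithfullyFlat_of_isPushout (k K F F' : Type u) [Field k] [Field K] [CommRing F] [CommRing F'] [Algebra k K]
    [Algebra k F] [Algebra k F'] [Algebra K F'] [Algebra F F'] [IsScalarTower k K F'] [IsScalarTower k F F']
    [h : Algebra.IsPushout k K F F'] : Module.FaithfullyFlat F F' := by
  haveI := h.symm
  haveI : Module.FaithfullyFlat k K := inferInstance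
  exact Module.FaithfullyFlat.of_linearEquiv F (F ⊗[k] K) (Algebra.IsPushout.equiv k F K F').symm.toLinearEquiv

variable {A' A'' B' B'' N' N'' : Type u} [CommRing A'] [CommRing A''] [Algebra A' A''] [CommRing B'] [CommRing B'']
  [Algebra A' B'] [Algebra A'' B''] [Algebra B' B''] [Algebra A' B''] [IsScalarTower A' A'' B''] [IsScalarTower A' B' B'']
  [Algebra.IsPushout A' B' A'' B''] [AddCommGroup N'] [Module B' N'] [AddCommGroup N''] [Module B'' N'']
  [Module B' N''] [IsScalarTower B' B'' N''] [Algebra.FiniteType A' B'] [Module.Finite B' N']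
  {g : N' →ₗ[B'] N''} (t' : Ideal A') [t'.IsPrime] (u' : Ideal A'') [u'.IsPrime] [u'.LiesOver t']

theorem assFibre_correspond (hg : IsBaseChange B'' g) :
    (∀ P : Ideal B', P.IsPrime → P.LiesOver t' →
        FlatCA.fiberIdeal t' P ∈ associatedPrimes (t'.Fiber B') (FlatCA.fiberMod t' B' N') →
        ∃ P'' : Ideal B'', P''.IsPrime ∧ P''.LiesOver u' ∧ P''.comap (algebraMap B' B'') = P ∧
          FlatCA.fiberIdeal u' P'' ∈ associatedPrimes (u'.Fiber B'') (FlatCA.fiberMod u' B'' N'')) ∧
    (∀ P'' : Ideal B'', P''.IsPrime → P''.LiesOver u' →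
        FlatCA.fiberIdeal u' P'' ∈ associatedPrimes (u'.Fiber B'') (FlatCA.fiberMod u' B'' N'') →
        FlatCA.fiberIdeal t' (P''.comap (algebraMap B' B'')) ∈
          associatedPrimes (t'.Fiber B') (FlatCA.fiberMod t' B' N')) := by
  letI : Algebra B' (t'.Fiber B') := Algebra.TensorProduct.rightAlgebra
  letI : Algebra B'' (u'.Fiber B'') := Algebra.TensorProduct.rightAlgebra
  haveI hp' : Algebra.IsPushout A' A'' B' B'' := Algebra.IsPushout.symm inferInstance
  haveI : Algebra.FiniteType A'' B'' :=
    Algebra.FiniteType.equiv (inferInstance : Algebra.FiniteType A'' (A'' ⊗[A'] B'))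
      (Algebra.IsPushout.equiv A' A'' B' B'')
  haveI : IsNoetherianRing (t'.Fiber B') := Algebra.FiniteType.isNoetherianRing t'.ResidueField _
  haveI : IsNoetherianRing (u'.Fiber B'') := Algebra.FiniteType.isNoetherianRing u'.ResidueField _
  -- residue fields
  letI : Algebra t'.ResidueField u'.ResidueField :=
    (Ideal.ResidueField.mapₐ t' u' (Algebra.ofId A' A'') (Ideal.over_def u' t')).toRingHom.toAlgebra
  haveI : IsScalarTower A' t'.ResidueField u'.ResidueField := IsScalarTower.of_algebraMap_eq fun a =>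
    ((Ideal.ResidueField.mapₐ t' u' (Algebra.ofId A' A'') (Ideal.over_def u' t')).commutes a).symm
  -- the map of fibre rings
  let j : B' →ₐ[A'] u'.Fiber B'' :=
    { toRingHom := (algebraMap B'' (u'.Fiber B'')).comp (algebraMap B' B'')
      commutes' := fun a => by
        show algebraMap B'' (u'.Fiber B'') (algebraMap B' B'' (algebraMap A' B' a)) = _
        rw [← IsScalarTower.algebraMap_apply A' B' B'', IsScalarTower.algebraMap_apply A' A'' B'',
          ← IsScalarTower.algebraMap_apply A'' B'' (u'.Fiber B''), ← IsScalarTower.algebraMap_apply A' A'' (u'.Fiber B'')] }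
  let φ : t'.Fiber B' →ₐ[A'] u'.Fiber B'' := Algebra.TensorProduct.lift
    (((IsScalarTower.toAlgHom A' u'.ResidueField (u'.Fiber B''))).comp
      (IsScalarTower.toAlgHom A' t'.ResidueField u'.ResidueField)) j fun _ _ => Commute.all _ _
  letI : Algebra (t'.Fiber B') (u'.Fiber B'') := φ.toRingHom.toAlgebra
  letI : Algebra B' (u'.Fiber B'') := j.toRingHom.toAlgebra
  haveI : IsScalarTower B' B'' (u'.Fiber B'') := IsScalarTower.of_algebraMap_eq' rfl
  haveI : IsScalarTower t'.ResidueField (t'.Fiber B') (u'.Fiber B'') := IsScalarTower.of_algebraMap_eq fun c => by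
    show _ = φ (c ⊗ₜ 1)
    rw [Algebra.TensorProduct.lift_tmul, map_one, mul_one]
    rfl
  haveI : IsScalarTower B' (t'.Fiber B') (u'.Fiber B'') := IsScalarTower.of_algebraMap_eq fun b => by
    show _ = φ (1 ⊗ₜ b)
    rw [Algebra.TensorProduct.lift_tmul, map_one, one_mul]
    rfl
  haveI : IsScalarTower A' t'.ResidueField (u'.Fiber B'') := IsScalarTower.of_algebraMap_eq fun a => by
    rw [IsScalarTower.algebraMap_apply A' u'.ResidueField (u'.Fiber B''), IsScalarTower.algebraMap_apply A' t'.ResidueField u'.ResidueField]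
    rfl
  haveI : IsScalarTower A' B' (u'.Fiber B'') := IsScalarTower.of_algebraMap_eq fun a => (j.commutes a).symm
  haveI : IsScalarTower A' B'' (u'.Fiber B'') := IsScalarTower.of_algebraMap_eq fun a => by
    rw [IsScalarTower.algebraMap_apply A' A'' B'', ← IsScalarTower.algebraMap_apply A'' B'' (u'.Fiber B''),
      ← IsScalarTower.algebraMap_apply A' A'' (u'.Fiber B'')]
  haveI h1 : Algebra.IsPushout A' u'.ResidueField B' (u'.Fiber B'') :=
    (Algebra.IsPushout.comp_iff (R := A') (S := A'') (R' := B') (S' := B'') (T := u'.ResidueField)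
      (T' := u'.Fiber B'')).2 inferInstance
  haveI h2 : Algebra.IsPushout t'.ResidueField u'.ResidueField (t'.Fiber B') (u'.Fiber B'') :=
    (Algebra.IsPushout.comp_iff (R := A') (S := t'.ResidueField) (R' := B') (S' := t'.Fiber B') (T := u'.ResidueField)
      (T' := u'.Fiber B'')).1 h1
  haveI : Algebra.IsPushout t'.ResidueField (t'.Fiber B') u'.ResidueField (u'.Fiber B'') := h2.symm
  haveI : Module.FaithfullyFlat (t'.Fiber B') (u'.Fiber B'') :=
    faithfullyFlat_of_isPushout t'.ResidueField u'.ResidueField (t'.Fiber B') (u'.Fiber B'')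
  -- the map of fibre modules
  let Mt := (t'.Fiber B') ⊗[B'] N'
  let Mu := (u'.Fiber B'') ⊗[B''] N''
  letI : Module B' Mu := Module.compHom Mu (algebraMap B' B'')
  letI : Module (t'.Fiber B') Mu := Module.compHom Mu (φ : t'.Fiber B' →+* u'.Fiber B'')
  haveI : IsScalarTower B' B'' Mu := IsScalarTower.of_algebraMap_smul fun r x => rfl
  haveI : IsScalarTower B' (u'.Fiber B'') Mu := IsScalarTower.of_algebraMap_smul fun r x =>
    algebraMap_smul (u'.Fiber B'') (algebraMap B' B'' r) x
  haveI : IsScalarTower (t'.Fiber B') (u'.Fiber B'') Mu := IsScalarTower.of_algebraMap_smul fun r x => rfl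
  haveI : IsScalarTower B' (t'.Fiber B') Mu := IsScalarTower.of_algebraMap_smul fun r x => by
    rw [← algebraMap_smul (u'.Fiber B'') (algebraMap B' (t'.Fiber B') r) x,
      ← IsScalarTower.algebraMap_apply B' (t'.Fiber B') (u'.Fiber B''), algebraMap_smul]
  have hmt : IsBaseChange (t'.Fiber B') (TensorProduct.mk B' (t'.Fiber B') N' 1) := TensorProduct.isBaseChange _ _ _
  have hmu : IsBaseChange (u'.Fiber B'') (((TensorProduct.mk B'' (u'.Fiber B'') N'' 1).restrictScalars B').comp g) :=
    hg.comp (TensorProduct.isBaseChange _ _ _)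
  let G : Mt →ₗ[t'.Fiber B'] Mu := hmt.lift (((TensorProduct.mk B'' (u'.Fiber B'') N'' 1).restrictScalars B').comp g)
  have hG : IsBaseChange (u'.Fiber B'') G := by
    refine IsBaseChange.of_comp hmt ?_
    rw [IsBaseChange.lift_comp]
    exact hmu
  have hcomap : ∀ Q : Ideal (u'.Fiber B''), (Q.comap (algebraMap (t'.Fiber B') (u'.Fiber B''))).comap (FibAssLib.incl B' t') =
      (Q.comap (FibAssLib.incl B'' u')).comap (algebraMap B' B'') := fun Q => by
    ext b
    show φ (1 ⊗ₜ b) ∈ Q ↔ _
    rw [Algebra.TensorProduct.lift_tmul, map_one, one_mul]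
    rfl
  constructor
  · intro P _ hP hass
    obtain ⟨Q, hQ, hQc⟩ := exists_mem_associatedPrimes (M := Mt) (M' := Mu) hG hass
    haveI := hQ.1
    refine ⟨Q.comap (FibAssLib.incl B'' u'), inferInstance, liesOver_comap_incl u' Q, ?_, ?_⟩
    · rw [← hcomap, hQc, fiberIdeal_comap_eq t' P hP]
    · rw [fiberIdeal_comap u' Q]
      exact hQ
  · intro P'' _ hP'' hass
    have h := comap_mem_associatedPrimes (M := Mt) (M' := Mu) hG hass
    haveI := h.1
    rw [← fiberIdeal_comap_eq u' P'' hP'', ← hcomap, fiberIdeal_comap t']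
    exact h

end GeomPureLib
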