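import Groth.Agent.GeomPureLib.Impurity.Basic
import Groth.Agent.MultNhdLib.Stage
import Groth.Agent.S0506
import Groth.Agent.S0507
import Groth.Agent.S0508
import Groth.Agent.S9470

/-!
# Impurities over the henselization and over étale neighbourhoods
-/

set_option autoImplicit false
set_option backward.isDefEq.respectTransparency false
set_option linter.style.haveILetI false
set_option linter.unusedSectionVars false

universe u

open TensorProduct IsLocalRing

noncomputable section

namespace GeomPureLib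

variable {A : Type u} [CommRing A] (p : Ideal A) [p.IsPrime] (Rh : Type u) [CommRing Rh] [IsLocalRing Rh]
  [Algebra A Rh] [Algebra (Localization.AtPrime p) Rh] [IsScalarTower A (Localization.AtPrime p) Rh]
  [IsLocalHom (algebraMap (Localization.AtPrime p) Rh)] [Hensel.IsHenselization (Localization.AtPrime p) Rh]

theorem hens_map_eq : p.map (algebraMap A Rh) = maximalIdeal Rh := by
  rw [IsScalarTower.algebraMap_eq A (Localization.AtPrime p) Rh, ← Ideal.map_map,
    Localization.AtPrime.map_eq_maximalIdeal, Groth.Agent.S0507.result]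

theorem hens_liesOver : (maximalIdeal Rh).LiesOver p := by
  refine ⟨?_⟩
  rw [Ideal.under_def, IsScalarTower.algebraMap_eq A (Localization.AtPrime p) Rh, ← Ideal.comap_comap]
  rw [IsLocalRing.maximalIdeal_comap]
  exact (IsLocalization.AtPrime.under_maximalIdeal _ p).symm

theorem exists_hens_residue (z : Rh) :
    ∃ a s : A, s ∉ p ∧ z * algebraMap A Rh s - algebraMap A Rh a ∈ maximalIdeal Rh := by
  obtain ⟨r, hr⟩ := (Groth.Agent.S0508.result (Localization.AtPrime p) Rh).2 (residue Rh z)
  obtain ⟨r, rfl⟩ := residue_surjective r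
  rw [ResidueField.map_residue] at hr
  obtain ⟨a, ⟨s, hs⟩, rfl⟩ := IsLocalization.exists_mk'_eq p.primeCompl r
  refine ⟨a, s, hs, ?_⟩
  rw [← residue_eq_zero_iff, map_sub, map_mul, ← hr, ← map_mul, sub_eq_zero]
  congr 1
  rw [IsScalarTower.algebraMap_apply A (Localization.AtPrime p) Rh, IsScalarTower.algebraMap_apply A (Localization.AtPrime p) Rh,
    ← map_mul, IsLocalization.mk'_spec]

variable {B : Type u} [CommRing B] [Algebra A B] [Algebra.FiniteType A B] {N : Type u} [AddCommGroup N] [Module B N]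
  [Module.Finite B N]

/-- An impurity at the closed point of the henselization descends to an elementary étale neighbourhood. -/
theorem hasImpurity_etaleNhd_of_hens {B' N' : Type u} [CommRing B'] [Algebra B B'] [Algebra Rh B'] [Algebra A B']
    [IsScalarTower A B B'] [IsScalarTower A Rh B'] [AddCommGroup N'] [Module B' N'] [Module B N']
    [IsScalarTower B B' N'] [Module Rh N'] [IsScalarTower Rh B' N'] {f : N →ₗ[B] N'} {t' : Ideal Rh} [t'.IsPrime]
    {P : Ideal B'} [P.IsPrime] (himp : FlatCA.IsImpurity A B N p Rh B' N' f t' (maximalIdeal Rh) P) :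
    FlatCA.HasImpurity A B N p (fun A' _ _ t => ∃ _ : t.IsPrime, FlatCA.IsEtaleNhd A A' p t) := by
  classical
  have himp' := himp
  obtain ⟨hpush, hbc, htt, hto, hPt, hass, hno⟩ := himp'
  haveI := hpush
  haveI : Algebra.IsPushout A Rh B B' := hpush.symm
  let ε := bcHom (A := A) (B := B) (A' := Rh) B'
  have hε : Function.Surjective ε := fun x => by
    obtain ⟨z, rfl⟩ := (Algebra.IsPushout.equiv A Rh B B').surjective x
    refine ⟨z, ?_⟩
    induction z using TensorProduct.induction_on with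
    | zero => simp
    | add a b ha hb => rw [map_add, map_add, ha, hb]
    | tmul a b => rw [bcHom_tmul, Algebra.IsPushout.equiv_tmul]
  obtain ⟨a, ha, hmem⟩ := (forall_not_liesOver_iff (maximalIdeal Rh) P).1 hno
  have hau : IsUnit (algebraMap Rh B' a) := (notMem_maximalIdeal.1 ha).map _
  obtain ⟨s, hs, y, hy, hsy⟩ := Submodule.mem_sup.1
    (Ideal.eq_top_of_isUnit_mem _ hmem hau ▸ Submodule.mem_top : (1 : B') ∈ P ⊔ (maximalIdeal Rh).map (algebraMap Rh B'))
  rw [← hens_map_eq p Rh, Ideal.map_map, ← IsScalarTower.algebraMap_eq] at hy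
  -- write `y` with coefficients
  have hy' : ∃ s : Finset Rh, ∀ (S : Type u) [CommRing S] [Algebra A S] [Algebra S Rh] [IsScalarTower A S Rh],
      (∀ r ∈ s, r ∈ (algebraMap S Rh).range) →
        ∃ x ∈ p.map (algebraMap A (S ⊗[A] B)),
          ε (Algebra.TensorProduct.map (IsScalarTower.toAlgHom A S Rh) (AlgHom.id A B) x) = y := by
    clear hsy
    induction hy using Submodule.span_induction with
    | mem b hb =>
      obtain ⟨c, hc, rfl⟩ := hb
      refine ⟨∅, fun S _ _ _ _ _ => ⟨algebraMap A (S ⊗[A] B) c, Ideal.mem_map_of_mem _ hc, ?_⟩⟩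
      rw [AlgHom.commutes]
      exact (ε.restrictScalars A).commutes c
    | zero => exact ⟨∅, fun S _ _ _ _ _ => ⟨0, Submodule.zero_mem _, by rw [map_zero, map_zero]⟩⟩
    | add b c _ _ hb hc =>
      obtain ⟨s₁, h₁⟩ := hb
      obtain ⟨s₂, h₂⟩ := hc
      refine ⟨s₁ ∪ s₂, fun S _ _ _ _ hS => ?_⟩
      obtain ⟨x, hx, rfl⟩ := h₁ S fun r hr => hS r (Finset.mem_union_left _ hr)
      obtain ⟨z, hz, rfl⟩ := h₂ S fun r hr => hS r (Finset.mem_union_right _ hr)
      exact ⟨x + z, add_mem hx hz, by rw [map_add, map_add]⟩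
    | smul c b _ hb =>
      obtain ⟨s₁, h₁⟩ := hb
      obtain ⟨w, rfl⟩ := hε c
      obtain ⟨U, hU⟩ := TensorProduct.exists_finset w
      refine ⟨s₁ ∪ U.image Prod.fst, fun S _ _ _ _ hS => ?_⟩
      obtain ⟨x, hx, rfl⟩ := h₁ S fun r hr => hS r (Finset.mem_union_left _ hr)
      have hw : ∃ v, Algebra.TensorProduct.map (IsScalarTower.toAlgHom A S Rh) (AlgHom.id A B) v = w := by
        rw [hU, ← AlgHom.mem_range]
        refine Subalgebra.sum_mem _ fun i hi => ?_
        obtain ⟨r, hr⟩ := hS i.1 (Finset.mem_union_right _ (Finset.mem_image_of_mem _ hi))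
        exact ⟨r ⊗ₜ i.2, by
          rw [← hr]
          exact Algebra.TensorProduct.map_tmul _ _ _ _⟩
      obtain ⟨v, rfl⟩ := hw
      exact ⟨v * x, Ideal.mul_mem_left _ v hx, by rw [map_mul, map_mul, smul_eq_mul]⟩
  obtain ⟨σ, hσ⟩ := hy'
  haveI : Algebra.Etale A A := inferInstance
  obtain ⟨S, _, iA, iA', _, -, -, hT, hSet, -, hSσ⟩ := Groth.Agent.MultNhd.exists_stage_mem p (R := A) (Rh := Rh) (S := A) σ
  clear iA'
  haveI := hT
  obtain ⟨yS, hyS, hyS'⟩ := hσ S hSσ
  haveI := hens_liesOver p Rh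
  letI : Algebra S B' := ((algebraMap Rh B').comp (algebraMap S Rh)).toAlgebra
  haveI : IsScalarTower S Rh B' := IsScalarTower.of_algebraMap_eq' rfl
  haveI : IsScalarTower A S B' := IsScalarTower.of_algebraMap_eq fun x => by
    rw [IsScalarTower.algebraMap_apply S Rh B', ← IsScalarTower.algebraMap_apply A S Rh,
      ← IsScalarTower.algebraMap_apply A Rh B']
  let tS := (maximalIdeal Rh).comap (algebraMap S Rh)
  haveI : t'.LiesOver (t'.comap (algebraMap S Rh)) := ⟨rfl⟩
  haveI : (maximalIdeal Rh).LiesOver tS := ⟨rfl⟩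
  haveI : tS.LiesOver p := ⟨by
    rw [Ideal.under_def, Ideal.comap_comap, ← IsScalarTower.algebraMap_eq]; exact Ideal.over_def (maximalIdeal Rh) p⟩
  have hbc' : ∀ x, bcHom (A := A) (B := B) (A' := S) B' x =
      ε (Algebra.TensorProduct.map (IsScalarTower.toAlgHom A S Rh) (AlgHom.id A B) x) := fun x => by
    induction x using TensorProduct.induction_on with
    | zero => simp
    | add a b ha hb => simp only [map_add, ha, hb]
    | tmul c b =>
      rw [Algebra.TensorProduct.map_tmul, bcHom_tmul, bcHom_tmul, IsScalarTower.algebraMap_apply S Rh B']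
      rfl
  have h1 : (1 : S) ∉ tS := fun h => (Ideal.IsPrime.ne_top (I := tS) inferInstance) ((Ideal.eq_top_iff_one _).2 h)
  have hN : ¬ NoImp A B N p S (t'.comap (algebraMap S Rh)) tS := by
    refine impurity_descend himp (t'.comap (algebraMap S Rh)) tS (Ideal.comap_mono htt) h1 ?_
    rw [map_one]
    refine Submodule.mem_sup.2 ⟨1 - yS, ?_, yS, ?_, sub_add_cancel _ _⟩
    · rw [Ideal.mem_comap, hbc', map_sub, map_sub, map_one, map_one, hyS', ← hsy, add_sub_cancel_right]
      exact hs
    · refine Ideal.map_le_iff_le_comap.2 (fun c hc => ?_) hyS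
      rw [Ideal.mem_comap, IsScalarTower.algebraMap_apply A S (S ⊗[A] B)]
      refine Ideal.mem_map_of_mem _ ?_
      rw [Ideal.over_def tS p] at hc
      exact hc
  refine isImpurity_hasImpurity hN _ ⟨inferInstance, hSet, inferInstance, ?_⟩
  set φ := Ideal.ResidueField.mapₐ p tS (Algebra.ofId A S) (Ideal.over_def tS p)
  refine ⟨φ.toRingHom.injective, fun x => ?_⟩
  let ψ := Ideal.ResidueField.mapₐ tS (maximalIdeal Rh) (IsScalarTower.toAlgHom A S Rh) rfl
  obtain ⟨z, hz⟩ := Ideal.algebraMap_residueField_surjective (maximalIdeal Rh) (ψ x)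
  obtain ⟨a', s', hs', hzs⟩ := exists_hens_residue p Rh z
  refine ⟨algebraMap A p.ResidueField a' * (algebraMap A p.ResidueField s')⁻¹, ψ.toRingHom.injective ?_⟩
  show ψ (φ _) = ψ x
  have hs0 : algebraMap A (maximalIdeal Rh).ResidueField s' ≠ 0 := by
    rw [IsScalarTower.algebraMap_apply A Rh (maximalIdeal Rh).ResidueField, Ne, Ideal.algebraMap_residueField_eq_zero]
    intro h
    exact hs' (by rw [Ideal.over_def (maximalIdeal Rh) p]; exact h)
  rw [map_mul, map_mul, map_inv₀, map_inv₀, AlgHom.commutes, AlgHom.commutes, AlgHom.commutes, AlgHom.commutes,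
    ← hz, ← div_eq_mul_inv, div_eq_iff hs0, IsScalarTower.algebraMap_apply A Rh (maximalIdeal Rh).ResidueField a',
    IsScalarTower.algebraMap_apply A Rh (maximalIdeal Rh).ResidueField s', ← map_mul, eq_comm, ← sub_eq_zero,
    ← map_sub, Ideal.algebraMap_residueField_eq_zero]
  exact hzs

/-- An impurity over an elementary étale neighbourhood gives one over the henselization. -/
theorem hasImpurity_hens_of_etaleNhd {A' B' N' : Type u} [CommRing A'] [Algebra A A'] [CommRing B'] [Algebra B B']
    [Algebra A' B'] [Algebra A B'] [IsScalarTower A B B'] [IsScalarTower A A' B'] [AddCommGroup N'] [Module B' N']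
    [Module B N'] [IsScalarTower B B' N'] [Module A' N'] [IsScalarTower A' B' N'] {f : N →ₗ[B] N'} {t' t : Ideal A'}
    [t'.IsPrime] [t.IsPrime] {P : Ideal B'} [P.IsPrime] (himp : FlatCA.IsImpurity A B N p A' B' N' f t' t P)
    (het : FlatCA.IsEtaleNhd A A' p t) :
    ∃ t₀ : Ideal Rh, ∃ _ : t₀.IsPrime, ¬ NoImp A B N p Rh t₀ (maximalIdeal Rh) := by
  obtain ⟨hE, hl, hb⟩ := het
  haveI := hE
  obtain ⟨j, hj, -⟩ := (Groth.Agent.S9470.result A p Rh).1 A' t hl.over hb
  letI : Algebra A' Rh := j.toRingHom.toAlgebra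
  haveI : IsScalarTower A A' Rh := IsScalarTower.of_algebraMap_eq fun x => (j.commutes x).symm
  haveI : Module.Flat A' Rh := Groth.Agent.MultNhd.flat_stage p
  haveI : (maximalIdeal Rh).LiesOver t := ⟨hj.symm⟩
  obtain ⟨t₀, ht₀, ht₀p, ht₀o⟩ := Ideal.exists_ideal_le_liesOver_of_le (p := t') (q := t) (maximalIdeal Rh) himp.2.2.1
  exact ⟨t₀, ht₀p, impurity_ascend himp t₀ (maximalIdeal Rh) ht₀⟩

end GeomPureLib
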