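import Groth.Agent.GeomPureLib.Impurity.Noeth
import Groth.Agent.GeomPureLib.Impurity.Hens

/-!
# Purity and universal purity over a Noetherian local ring
-/

set_option autoImplicit false
set_option backward.isDefEq.respectTransparency false
set_option linter.style.haveILetI false
set_option linter.unusedSectionVars false

universe u

open TensorProduct IsLocalRing

noncomputable section

namespace GeomPureLib

/-- A henselization of the trivial localization of a local ring is a henselization of the ring. -/
theorem isHenselization_of_trivial {R L Rh : Type u} [CommRing R] [IsLocalRing R] [CommRing L] [IsLocalRing L]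
    [CommRing Rh] [IsLocalRing Rh] [Algebra R L] [IsLocalization.AtPrime L (maximalIdeal R)] [Algebra L Rh]
    [IsLocalHom (algebraMap L Rh)] [Algebra R Rh] [IsScalarTower R L Rh] [IsLocalHom (algebraMap R Rh)]
    [h : Hensel.IsHenselization L Rh] : Hensel.IsHenselization R Rh where
  henselian := h.henselian
  universal T _ _ f hf := by
    haveI := hf
    have hu : ∀ s : (maximalIdeal R).primeCompl, IsUnit (f s) := fun s =>
      (IsLocalRing.notMem_maximalIdeal.1 s.2).map f
    let fL : L →+* T := IsLocalization.lift hu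
    have hfL : fL.comp (algebraMap R L) = f := IsLocalization.lift_comp hu
    haveI : IsLocalHom fL := ⟨fun x hx => by
      obtain ⟨a, s, rfl⟩ := IsLocalization.exists_mk'_eq (maximalIdeal R).primeCompl x
      rw [IsLocalization.lift_mk'] at hx
      have ha : IsUnit (f a) := isUnit_of_mul_isUnit_left hx
      exact (IsLocalization.AtPrime.isUnit_mk'_iff L (maximalIdeal R) a s).2
        (IsLocalRing.notMem_maximalIdeal.2 (isUnit_of_map_unit f a ha))⟩
    obtain ⟨g, hg, hguniq⟩ := h.universal T fL inferInstance
    refine ⟨g, ?_, fun g' hg' => hguniq g' (IsLocalization.ringHom_ext (maximalIdeal R).primeCompl ?_)⟩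
    · show g.comp (algebraMap R Rh) = f
      rw [IsScalarTower.algebraMap_eq R L Rh, ← RingHom.comp_assoc]
      rw [show g.comp (algebraMap L Rh) = fL from hg, hfL]
    · rw [RingHom.comp_assoc, ← IsScalarTower.algebraMap_eq, hfL]
      exact hg'

variable {A B : Type u} [CommRing A] [CommRing B] [Algebra A B] [Algebra.FiniteType A B] {N : Type u} [AddCommGroup N]
  [Module B N] [Module.Finite B N] {p : Ideal A} [p.IsPrime]

set_option maxHeartbeats 4000000 in
/-- An impurity over the local ring gives one over an étale neighbourhood. -/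
theorem back {B₁ N₁ : Type u} [IsNoetherianRing (Localization.AtPrime p)] [CommRing B₁] [Algebra (Localization.AtPrime p) B₁] [Algebra.FiniteType (Localization.AtPrime p) B₁] [Algebra B B₁] [Algebra A B₁]
    [IsScalarTower A B B₁] [IsScalarTower A (Localization.AtPrime p) B₁] [Algebra.IsPushout A B (Localization.AtPrime p) B₁] [AddCommGroup N₁] [Module B₁ N₁]
    [Module.Finite B₁ N₁] [Module B N₁] [IsScalarTower B B₁ N₁] {f₁ : N →ₗ[B] N₁} (hf₁ : IsBaseChange B₁ f₁)
    (h : FlatCA.IsPureAlong A B N p)
    (himp₁ : FlatCA.HasImpurity (Localization.AtPrime p) B₁ N₁ (maximalIdeal (Localization.AtPrime p)) fun _ _ _ _ => True) : False := by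
  classical
  haveI : (maximalIdeal (Localization.AtPrime p)).LiesOver p := ⟨(IsLocalization.AtPrime.under_maximalIdeal (Localization.AtPrime p) p).symm⟩
  obtain ⟨A₃, B₃, N₃, _, _, _, _, _, _, _, _, _, _, _, _, _, _, f₃, t₃', t₃, _, _, P₃, _, himp₃, _, het⟩ :=
    hasImpurity_etaleNhd_of_quasiFinite (hasImpurity_quasiFinite himp₁)
  obtain ⟨Rh, _, _, _, _, _⟩ := Groth.Agent.S0506.result (Localization.AtPrime (maximalIdeal (Localization.AtPrime p)))
  letI : Algebra (Localization.AtPrime p) Rh := ((algebraMap (Localization.AtPrime (maximalIdeal (Localization.AtPrime p))) Rh).comp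
    (algebraMap (Localization.AtPrime p) (Localization.AtPrime (maximalIdeal (Localization.AtPrime p))))).toAlgebra
  haveI : IsScalarTower (Localization.AtPrime p) (Localization.AtPrime (maximalIdeal (Localization.AtPrime p))) Rh := IsScalarTower.of_algebraMap_eq' rfl
  letI : Algebra A Rh := ((algebraMap (Localization.AtPrime p) Rh).comp (algebraMap A (Localization.AtPrime p))).toAlgebra
  haveI : IsScalarTower A (Localization.AtPrime p) Rh := IsScalarTower.of_algebraMap_eq' rfl
  haveI := hens_liesOver (maximalIdeal (Localization.AtPrime p)) Rh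
  haveI : IsLocalHom (algebraMap (Localization.AtPrime p) Rh) := ⟨fun x hx => by
    by_contra hx'
    have hmem : x ∈ maximalIdeal (Localization.AtPrime p) := hx'
    rw [Ideal.over_def (maximalIdeal Rh) (maximalIdeal (Localization.AtPrime p))] at hmem
    exact hmem hx⟩
  haveI : Hensel.IsHenselization (Localization.AtPrime p) Rh := isHenselization_of_trivial (L := Localization.AtPrime (maximalIdeal (Localization.AtPrime p)))
  obtain ⟨t₀, _, hN⟩ := hasImpurity_hens_of_etaleNhd (maximalIdeal (Localization.AtPrime p)) Rh himp₃ het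
  refine hN (noImp_baseChange (p := p) hf₁ fun B₄ N₄ _ _ _ _ _ _ _ _ _ _ _ _ f₄ P₄ _ himp₄ => ?_)
  obtain ⟨A₅, B₅, N₅, _, _, _, _, _, _, _, _, _, _, _, _, _, _, f₅, t₅', t₅, _, _, P₅, _, himp₅, _, het₅⟩ :=
    hasImpurity_etaleNhd_of_hens p Rh himp₄
  exact h A₅ B₅ N₅ f₅ t₅' t₅ P₅ het₅ himp₅


/-- Moving a pair of points over a local ring. -/
theorem exists_local_point {A' : Type u} [CommRing A'] [Algebra A A'] (t' t : Ideal A') [t'.IsPrime] [t.IsPrime]
    (htt : t' ≤ t) [t.LiesOver p] :
    ∃ (A'' : Type u) (_ : CommRing A'') (_ : Algebra A' A'') (_ : Algebra A A'') (_ : IsScalarTower A A' A'')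
      (_ : Algebra (Localization.AtPrime p) A'') (_ : IsScalarTower A (Localization.AtPrime p) A'')
      (u' u : Ideal A'') (_ : u'.IsPrime) (_ : u.IsPrime) (_ : u'.LiesOver t') (_ : u.LiesOver t),
      u' ≤ u ∧ u.LiesOver (maximalIdeal (Localization.AtPrime p)) := by
  -- localize the base change ring
  let S := Localization.AtPrime p
  let M := Algebra.algebraMapSubmonoid A' p.primeCompl
  let A'' := Localization M
  have hdisj : ∀ (q : Ideal A'), q ≤ t → Disjoint (M : Set A') (q : Set A') := fun q hq => by
    rw [Set.disjoint_left]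
    rintro _ ⟨a, ha, rfl⟩ h2
    exact ha ((SetLike.ext_iff.1 (Ideal.over_def t p) a).2 (hq h2))
  have hu : ∀ a : p.primeCompl, IsUnit (algebraMap A A'' a) := fun a => by
    rw [IsScalarTower.algebraMap_apply A A' A'']
    exact IsLocalization.map_units A'' (⟨_, a.1, a.2, rfl⟩ : M)
  letI : Algebra S A'' := (IsLocalization.lift hu : S →+* A'').toAlgebra
  haveI : IsScalarTower A S A'' := IsScalarTower.of_algebraMap_eq fun x => (IsLocalization.lift_eq hu x).symm
  haveI := IsLocalization.isPrime_of_isPrime_disjoint M A'' t inferInstance (hdisj t le_rfl)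
  haveI := IsLocalization.isPrime_of_isPrime_disjoint M A'' t' inferInstance (hdisj t' htt)
  let u := t.map (algebraMap A' A'')
  let u' := t'.map (algebraMap A' A'')
  haveI : u.LiesOver t := ⟨(IsLocalization.under_map_of_isPrime_disjoint M A'' inferInstance (hdisj t le_rfl)).symm⟩
  haveI : u'.LiesOver t' :=
    ⟨(IsLocalization.under_map_of_isPrime_disjoint M A'' inferInstance (hdisj t' htt)).symm⟩
  haveI : u.LiesOver p := Ideal.LiesOver.trans u t p
  haveI : u.LiesOver (maximalIdeal S) := ⟨by
    refine le_antisymm ?_ (IsLocalRing.le_maximalIdeal (Ideal.IsPrime.ne_top inferInstance))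
    conv_lhs => rw [← Localization.AtPrime.map_eq_maximalIdeal]
    rw [Ideal.map_le_iff_le_comap]
    intro x hx
    have hx' : algebraMap A A'' x ∈ u := (SetLike.ext_iff.1 (Ideal.over_def u p) x).1 hx
    show algebraMap S A'' (algebraMap A S x) ∈ u
    rw [← IsScalarTower.algebraMap_apply]
    exact hx'⟩
  exact ⟨A'', inferInstance, inferInstance, inferInstance, inferInstance, inferInstance, inferInstance, u', u,
    inferInstance, inferInstance, inferInstance, inferInstance, Ideal.map_mono htt, inferInstance⟩

theorem noImp_local {B₁ N₁ : Type u} [IsNoetherianRing (Localization.AtPrime p)] [CommRing B₁]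
    [Algebra (Localization.AtPrime p) B₁] [Algebra.FiniteType (Localization.AtPrime p) B₁] [Algebra B B₁] [Algebra A B₁]
    [IsScalarTower A B B₁] [IsScalarTower A (Localization.AtPrime p) B₁]
    [Algebra.IsPushout A B (Localization.AtPrime p) B₁] [AddCommGroup N₁] [Module B₁ N₁] [Module.Finite B₁ N₁]
    [Module B N₁] [IsScalarTower B B₁ N₁] {f₁ : N →ₗ[B] N₁} (hf₁ : IsBaseChange B₁ f₁)
    (h : FlatCA.IsPureAlong A B N p) {A'' : Type u} [CommRing A''] [Algebra A A''] [Algebra (Localization.AtPrime p) A'']
    [IsScalarTower A (Localization.AtPrime p) A''] (u' u : Ideal A'') [u'.IsPrime] [u.IsPrime]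
    [u.LiesOver (maximalIdeal (Localization.AtPrime p))] : NoImp A B N p A'' u' u := by
  haveI : (maximalIdeal (Localization.AtPrime p)).LiesOver p :=
    ⟨(IsLocalization.AtPrime.under_maximalIdeal (Localization.AtPrime p) p).symm⟩
  refine noImp_of_baseChange (p' := maximalIdeal (Localization.AtPrime p)) hf₁ ?_
  intro B₂ N₂ _ _ _ _ _ _ _ _ _ _ _ _ g Q _ himp₂
  exact back hf₁ h ⟨A'', B₂, N₂, inferInstance, inferInstance, inferInstance, inferInstance, inferInstance, inferInstance,
      inferInstance, inferInstance, inferInstance, inferInstance, inferInstance, inferInstance, inferInstance,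
      inferInstance, g, u', u, inferInstance, inferInstance, Q, inferInstance, himp₂, trivial⟩

/-- A model of a base change, with opaque carriers. -/
theorem exists_model (A : Type u) [CommRing A] {B : Type u} [CommRing B] [Algebra A B] [Algebra.FiniteType A B]
    (N : Type u) [AddCommGroup N] [Module B N] [Module.Finite B N] (S : Type u) [CommRing S] [Algebra A S] :
    ∃ (B₁ N₁ : Type u) (_ : CommRing B₁) (_ : Algebra S B₁) (_ : Algebra.FiniteType S B₁) (_ : Algebra B B₁)
      (_ : Algebra A B₁) (_ : IsScalarTower A B B₁) (_ : IsScalarTower A S B₁) (_ : Algebra.IsPushout A B S B₁)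
      (_ : AddCommGroup N₁) (_ : Module B₁ N₁) (_ : Module.Finite B₁ N₁) (_ : Module B N₁)
      (_ : IsScalarTower B B₁ N₁) (f₁ : N →ₗ[B] N₁), IsBaseChange B₁ f₁ := by
  letI : Algebra B (S ⊗[A] B) := Algebra.TensorProduct.rightAlgebra
  exact ⟨S ⊗[A] B, (S ⊗[A] B) ⊗[B] N, inferInstance, inferInstance, inferInstance, inferInstance, inferInstance,
    inferInstance, inferInstance, inferInstance, inferInstance, inferInstance, inferInstance, inferInstance,
    inferInstance, TensorProduct.mk B (S ⊗[A] B) N 1, TensorProduct.isBaseChange _ _ _⟩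

theorem isUnivPureAlong_of_isPureAlong_noetherian [IsNoetherianRing (Localization.AtPrime p)]
    (h : FlatCA.IsPureAlong A B N p) : FlatCA.IsUnivPureAlong A B N p := by
  intro A' B' N' _ _ _ _ _ _ _ _ _ _ _ _ _ _ f t' t _ _ P _ himp
  obtain ⟨B₁, N₁, _, _, _, _, _, _, _, _, _, _, _, _, _, f₁, hf₁⟩ := exists_model A (B := B) N (Localization.AtPrime p)
  haveI hto : t.LiesOver p := himp.2.2.2.1
  obtain ⟨A'', _, _, _, _, _, _, u', u, _, _, _, _, hle, hum⟩ := exists_local_point (p := p) t' t himp.2.2.1
  haveI := hum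
  exact impurity_ascend himp u' u hle (noImp_local hf₁ h u' u)

theorem isPureAlong_iff_isUnivPureAlong [IsNoetherianRing (Localization.AtPrime p)] :
    FlatCA.IsPureAlong A B N p ↔ FlatCA.IsUnivPureAlong A B N p :=
  ⟨isUnivPureAlong_of_isPureAlong_noetherian, fun h A' B' N' _ _ _ _ _ _ _ _ _ _ _ _ _ _ f t' t _ _ P _ _ =>
    h A' B' N' f t' t P⟩

end GeomPureLib
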