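import Groth.Agent.GeomPureLib.Impurity.Basic
import Mathlib.RingTheory.Jacobson.Ring
import Mathlib.RingTheory.Spectrum.Prime.Jacobson
import Mathlib.RingTheory.FinitePresentation

/-!
# Impurities over finitely presented base changes
-/

set_option autoImplicit false
set_option backward.isDefEq.respectTransparency false
set_option linter.style.haveILetI false
set_option linter.unusedSectionVars false

universe u

open TensorProduct

noncomputable section

namespace GeomPureLib

variable {A B : Type u} [CommRing A] [CommRing B] [Algebra A B] [Algebra.FiniteType A B] {N : Type u} [AddCommGroup N]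
  [Module B N] [Module.Finite B N] {p : Ideal A} [p.IsPrime] {A' : Type u} [CommRing A'] [Algebra A A']

/-- An impurity is seen on every base change ring containing finitely many given elements, at all further
specialisations of the point keeping the witness invertible. -/
theorem exists_finset_stage {B' N' : Type u} [CommRing B'] [Algebra B B'] [Algebra A' B'] [Algebra A B']
    [IsScalarTower A B B'] [IsScalarTower A A' B'] [AddCommGroup N'] [Module B' N'] [Module B N']
    [IsScalarTower B B' N'] [Module A' N'] [IsScalarTower A' B' N'] {f : N →ₗ[B] N'} {t' t : Ideal A'} [t'.IsPrime]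
    [t.IsPrime] {P : Ideal B'} [P.IsPrime] (himp : FlatCA.IsImpurity A B N p A' B' N' f t' t P) :
    ∃ a ∉ t, ∃ σ : Finset A', ∀ (S : Type u) [CommRing S] [Algebra A S] [Algebra S A'] [IsScalarTower A S A'],
      (∀ r ∈ σ, r ∈ (algebraMap S A').range) → ∀ aS : S, algebraMap S A' aS = a →
        ∀ (u : Ideal S) [u.IsPrime] [u.LiesOver p], t.comap (algebraMap S A') ≤ u → aS ∉ u →
          ¬ NoImp A B N p S (t'.comap (algebraMap S A')) u := by
  classical
  have himp' := himp
  obtain ⟨hpush, hbc, htt, hto, hPt, hass, hno⟩ := himp'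
  haveI := hpush
  haveI : Algebra.IsPushout A A' B B' := hpush.symm
  let ε := bcHom (A := A) (B := B) (A' := A') B'
  have hε : Function.Surjective ε := fun x => by
    obtain ⟨z, rfl⟩ := (Algebra.IsPushout.equiv A A' B B').surjective x
    refine ⟨z, ?_⟩
    induction z using TensorProduct.induction_on with
    | zero => simp
    | add a b ha hb => rw [map_add, map_add, ha, hb]
    | tmul a b => rw [bcHom_tmul, Algebra.IsPushout.equiv_tmul]
  obtain ⟨a, ha, hmem⟩ := (forall_not_liesOver_iff t P).1 hno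
  obtain ⟨s, hs, y, hy, hsy⟩ := Submodule.mem_sup.1 hmem
  have hy' : ∃ σ : Finset A', ∀ (S : Type u) [CommRing S] [Algebra A S] [Algebra S A'] [IsScalarTower A S A'],
      (∀ r ∈ σ, r ∈ (algebraMap S A').range) →
        ∃ x ∈ (t.comap (algebraMap S A')).map (algebraMap S (S ⊗[A] B)),
          ε (Algebra.TensorProduct.map (IsScalarTower.toAlgHom A S A') (AlgHom.id A B) x) = y := by
    clear hsy
    induction hy using Submodule.span_induction with
    | mem b hb =>
      obtain ⟨c, hc, rfl⟩ := hb
      refine ⟨{c}, fun S _ _ _ _ hS => ?_⟩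
      obtain ⟨cS, rfl⟩ := hS c (Finset.mem_singleton_self c)
      refine ⟨algebraMap S (S ⊗[A] B) cS, Ideal.mem_map_of_mem _ hc, ?_⟩
      show ε (Algebra.TensorProduct.map (IsScalarTower.toAlgHom A S A') (AlgHom.id A B) (cS ⊗ₜ 1)) = _
      rw [Algebra.TensorProduct.map_tmul, bcHom_tmul]
      simp
    | zero => exact ⟨∅, fun S _ _ _ _ _ => ⟨0, Submodule.zero_mem _, by rw [map_zero, map_zero]⟩⟩
    | add b c _ _ hb hc =>
      obtain ⟨s₁, h₁⟩ := hb
      obtain ⟨s₂, h₂⟩ := hc
      refine ⟨s₁ ∪ s₂, fun S _ _ _ _ hS => ?_⟩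
      obtain ⟨x, hx, rfl⟩ := h₁ S fun r hr => hS r (Finset.mem_union_left _ hr)
      obtain ⟨z, hz, rfl⟩ := h₂ S fun r hr => hS r (Finset.mem_union_right _ hr)
      exact ⟨x + z, add_mem hx hz, by rw [map_add, map_add]⟩
    | smul c b _ hb =>
      obtain ⟨s₁, h₁⟩ := hb
      obtain ⟨w, rfl⟩ := hε c
      obtain ⟨U, hU⟩ := TensorProduct.exists_finset w
      refine ⟨s₁ ∪ U.image Prod.fst, fun S _ _ _ _ hS => ?_⟩
      obtain ⟨x, hx, rfl⟩ := h₁ S fun r hr => hS r (Finset.mem_union_left _ hr)
      have hw : ∃ v, Algebra.TensorProduct.map (IsScalarTower.toAlgHom A S A') (AlgHom.id A B) v = w := by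
        rw [hU, ← AlgHom.mem_range]
        refine Subalgebra.sum_mem _ fun i hi => ?_
        obtain ⟨r, hr⟩ := hS i.1 (Finset.mem_union_right _ (Finset.mem_image_of_mem _ hi))
        exact ⟨r ⊗ₜ i.2, by
          rw [← hr]
          exact Algebra.TensorProduct.map_tmul _ _ _ _⟩
      obtain ⟨v, rfl⟩ := hw
      exact ⟨v * x, Ideal.mul_mem_left _ v hx, by rw [map_mul, map_mul, smul_eq_mul]⟩
  obtain ⟨σ, hσ⟩ := hy'
  refine ⟨a, ha, σ, fun S _ _ _ _ hS aS haS u _ _ hu hau => ?_⟩
  obtain ⟨yS, hyS, hyS'⟩ := hσ S hS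
  letI : Algebra S B' := ((algebraMap A' B').comp (algebraMap S A')).toAlgebra
  haveI : IsScalarTower S A' B' := IsScalarTower.of_algebraMap_eq' rfl
  haveI : IsScalarTower A S B' := IsScalarTower.of_algebraMap_eq fun x => by
    rw [IsScalarTower.algebraMap_apply S A' B', ← IsScalarTower.algebraMap_apply A S A',
      ← IsScalarTower.algebraMap_apply A A' B']
  haveI : t'.LiesOver (t'.comap (algebraMap S A')) := ⟨rfl⟩
  have hbc' : ∀ x, bcHom (A := A) (B := B) (A' := S) B' x =
      ε (Algebra.TensorProduct.map (IsScalarTower.toAlgHom A S A') (AlgHom.id A B) x) := fun x => by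
    induction x using TensorProduct.induction_on with
    | zero => simp
    | add a b ha hb => simp only [map_add, ha, hb]
    | tmul c b =>
      rw [Algebra.TensorProduct.map_tmul, bcHom_tmul, bcHom_tmul, IsScalarTower.algebraMap_apply S A' B']
      rfl
  refine impurity_descend himp (t'.comap (algebraMap S A')) u ((Ideal.comap_mono htt).trans hu) hau ?_
  refine Submodule.mem_sup.2 ⟨algebraMap S (S ⊗[A] B) aS - yS, ?_, yS, Ideal.map_mono hu hyS, sub_add_cancel _ _⟩
  rw [Ideal.mem_comap, map_sub, AlgHom.commutes, hbc', hyS', IsScalarTower.algebraMap_apply S A' B', haS, ← hsy,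
    add_sub_cancel_right]
  exact hs

theorem hasImpurity_fp_closedPoint (h : FlatCA.HasImpurity A B N p (fun _ _ _ _ => True)) :
    FlatCA.HasImpurity A B N p (fun A' _ _ t => Algebra.FinitePresentation A A' ∧ (FlatCA.fiberIdeal p t).IsMaximal) := by
  classical
  obtain ⟨A', B', N', _, _, _, _, _, _, _, _, _, _, _, _, _, _, f, t', t, _, _, P, _, himp, -⟩ := h
  obtain ⟨a, ha, σ, hσ⟩ := exists_finset_stage himp
  let τ := insert a σ
  let S := MvPolynomial τ A
  let π : S →ₐ[A] A' := MvPolynomial.aeval fun r : τ => (r : A')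
  letI : Algebra S A' := π.toRingHom.toAlgebra
  haveI : IsScalarTower A S A' := IsScalarTower.of_algebraMap_eq fun x => (π.commutes x).symm
  have hX : ∀ r (hr : r ∈ τ), algebraMap S A' (MvPolynomial.X ⟨r, hr⟩) = r := fun r hr => MvPolynomial.aeval_X _ _
  let aS : S := MvPolynomial.X ⟨a, Finset.mem_insert_self _ _⟩
  haveI hto : t.LiesOver p := himp.2.2.2.1
  haveI hTo : (t.comap (algebraMap S A')).LiesOver p := ⟨by
    rw [Ideal.under_def, Ideal.comap_comap, ← IsScalarTower.algebraMap_eq]; exact hto.over⟩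
  haveI : IsJacobsonRing (p.Fiber S) :=
    isJacobsonRing_of_finiteType (A := p.ResidueField) (B := p.Fiber S)
  let J := FlatCA.fiberIdeal p (t.comap (algebraMap S A'))
  have haJ : FibAssLib.incl S p aS ∉ J.radical := fun hmem => by
    obtain ⟨n, hn⟩ := hmem
    rw [← map_pow] at hn
    have h1 := mem_of_includeRight_mem p _ hTo hn
    exact ha (Ideal.IsPrime.mem_of_pow_mem inferInstance n (by
      rw [Ideal.mem_comap, map_pow, hX] at h1
      exact h1))
  rw [Ideal.radical_eq_jacobson, Ideal.jacobson, Ideal.mem_sInf] at haJ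
  push Not at haJ
  obtain ⟨M, ⟨hJM, hM⟩, haM⟩ := haJ
  haveI := hM
  haveI := liesOver_comap_incl p M
  refine isImpurity_hasImpurity
    (hσ S (fun r hr => ⟨_, hX r (Finset.mem_insert_of_mem hr)⟩) aS (hX a _) (M.comap (FibAssLib.incl S p)) ?_ haM) _
    ⟨inferInstance, by rw [fiberIdeal_comap]; exact hM⟩
  exact fun x hx => hJM (Ideal.mem_map_of_mem _ hx)

end GeomPureLib
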