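import Groth.Agent.GeomPureLib.Impurity.Comp
import Groth.Agent.GeomPureLib.Impurity.Stage
import Groth.Agent.GeomPureLib.ProjPure
import Groth.Agent.FlatLib.GenericFP
import Mathlib.RingTheory.ZariskisMainTheorem
import Mathlib.RingTheory.Ideal.KrullsHeightTheorem

/-!
# Impurities over a Noetherian base are seen on quasi-finite base changes
-/

set_option autoImplicit false
set_option backward.isDefEq.respectTransparency false
set_option linter.style.haveILetI false
set_option linter.unusedSectionVars false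

universe u

open TensorProduct

noncomputable section

namespace GeomPureLib

/-- A linear map with a retraction after a base change is injective after tensoring with any module over the new
ring. -/
theorem lTensor_injective_of_retract {R L M M' : Type u} [CommRing R] [CommRing L] [Algebra R L] [AddCommGroup M]
    [Module R M] [AddCommGroup M'] [Module R M'] (e : M →ₗ[R] M') (r : L ⊗[R] M' →ₗ[L] L ⊗[R] M)
    (hr : r ∘ₗ e.baseChange L = LinearMap.id) (K : Type u) [AddCommGroup K] [Module R K] [Module L K]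
    [IsScalarTower R L K] : Function.Injective (e.lTensor K) := by
  let cm := TensorProduct.AlgebraTensorModule.cancelBaseChange R L L K M
  let cm' := TensorProduct.AlgebraTensorModule.cancelBaseChange R L L K M'
  have comm : ∀ z : K ⊗[L] (L ⊗[R] M), cm' ((e.baseChange L).lTensor K z) = e.lTensor K (cm z) := fun z => by
    induction z using TensorProduct.induction_on with
    | zero => simp
    | add x y hx hy => simp only [map_add, hx, hy]
    | tmul q w =>
      induction w using TensorProduct.induction_on with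
      | zero => simp
      | add x y hx hy => simp only [tmul_add, map_add] at hx hy ⊢; rw [hx, hy]
      | tmul c n => simp [cm, cm']
  intro a b hab
  obtain ⟨a, rfl⟩ := cm.surjective a
  obtain ⟨b, rfl⟩ := cm.surjective b
  rw [← comm, ← comm] at hab
  have h := congrArg (r.lTensor K) (cm'.injective hab)
  rw [← LinearMap.comp_apply, ← LinearMap.comp_apply, ← LinearMap.lTensor_comp, hr, LinearMap.lTensor_id] at h
  rw [show a = b from h]

variable {A B : Type u} [CommRing A] [CommRing B] [Algebra A B] [Algebra.FiniteType A B] {N : Type u} [AddCommGroup N]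
  [Module B N] [Module.Finite B N] {p : Ideal A} [p.IsPrime]

/-- Over a field there are no impurities: an impurity with both points over `p` is impossible. -/
theorem noImp_of_both_over {R : Type u} [CommRing R] [IsDomain R] [Algebra A R] (t : Ideal R) [t.IsPrime]
    [t.LiesOver p] (h0 : (⊥ : Ideal R).LiesOver p) : NoImp A B N p R ⊥ t := by
  intro B' N' _ _ _ _ _ _ _ _ _ _ _ _ f P _ himp
  let L := Localization.AtPrime t
  have hker : p ≤ RingHom.ker (algebraMap A L) := fun a ha => by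
    have : algebraMap A R a = 0 := by
      rw [h0.over] at ha
      exact ha
    rw [RingHom.mem_ker, IsScalarTower.algebraMap_apply A R L, this, map_zero]
  have hunit : p.primeCompl ≤ (IsUnit.submonoid L).comap (algebraMap A L) := fun a ha => by
    show IsUnit (algebraMap A L a)
    rw [IsScalarTower.algebraMap_apply A R L]
    exact IsLocalization.map_units L (⟨_, fun h => ha ((SetLike.ext_iff.1 (Ideal.over_def t p) a).2 h)⟩ : t.primeCompl)
  letI : Algebra p.ResidueField L := (Ideal.ResidueField.lift p (algebraMap A L) hker hunit).toAlgebra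
  haveI : IsScalarTower A p.ResidueField L :=
    IsScalarTower.of_algebraMap_eq fun a => (Ideal.ResidueField.lift_algebraMap p _ hker hunit a).symm
  haveI : IsDomain L := IsLocalization.isDomain_localization (Ideal.primeCompl_le_nonZeroDivisors t)
  haveI : (IsLocalRing.maximalIdeal L).LiesOver t := ⟨(IsLocalization.AtPrime.under_maximalIdeal L t).symm⟩
  haveI : (⊥ : Ideal L).IsPrime := Ideal.isPrime_bot
  haveI : (⊥ : Ideal L).LiesOver (⊥ : Ideal R) := ⟨(Ideal.comap_bot_of_injective _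
    (IsLocalization.injective L (Ideal.primeCompl_le_nonZeroDivisors t))).symm⟩
  -- the model over the field
  let k := p.ResidueField
  letI : Algebra B (k ⊗[A] B) := Algebra.TensorProduct.rightAlgebra
  let Nk := (k ⊗[A] B) ⊗[B] N
  haveI : Algebra.IsPushout A B k (k ⊗[A] B) := inferInstance
  let fk : N →ₗ[B] Nk := TensorProduct.mk B (k ⊗[A] B) N 1
  have hfk : IsBaseChange (k ⊗[A] B) fk := TensorProduct.isBaseChange _ _ _
  haveI : (⊥ : Ideal k).LiesOver p := inferInstance
  haveI : Module.Projective k Nk := inferInstance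
  haveI : (IsLocalRing.maximalIdeal L).LiesOver (⊥ : Ideal k) := ⟨by
    rw [eq_comm, ← le_bot_iff]
    intro c hc
    by_contra h
    exact (IsLocalRing.maximalIdeal.isMaximal L).ne_top
      (Ideal.eq_top_of_isUnit_mem _ hc ((Ne.isUnit h).map (algebraMap k L)))⟩
  have huniv := isUnivPure_of_projective (A := k) (B := k ⊗[A] B) Nk ⊥
  refine impurity_ascend himp (⊥ : Ideal L) (IsLocalRing.maximalIdeal L) bot_le
    (noImp_of_baseChange (p' := (⊥ : Ideal k)) hfk fun B'' N'' _ _ _ _ _ _ _ _ _ _ _ _ g Q _ => huniv L B'' N'' g ⊥ (IsLocalRing.maximalIdeal L) Q)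

/-- An impurity at the generic point of a domain spreads out. -/
theorem exists_ne_zero_forall_impurity {R : Type u} [CommRing R] [IsDomain R] [IsNoetherianRing R] [Algebra A R]
    {B' N' : Type u} [CommRing B'] [Algebra B B'] [Algebra R B'] [Algebra A B']
    [IsScalarTower A B B'] [IsScalarTower A R B'] [AddCommGroup N'] [Module B' N'] [Module B N']
    [IsScalarTower B B' N'] [Module R N'] [IsScalarTower R B' N'] {f : N →ₗ[B] N'} {t : Ideal R} [t.IsPrime]
    {P : Ideal B'} [P.IsPrime] (himp : FlatCA.IsImpurity A B N p R B' N' f ⊥ t P) :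
    ∃ g : R, g ≠ 0 ∧ ∀ (q : Ideal R) [q.IsPrime], g ∉ q → q ≤ t → ¬ NoImp A B N p R q t := by
  obtain ⟨hpush, hbc, htt, hto, hPt, hass, hno⟩ := himp
  haveI := hpush
  haveI : Algebra.IsPushout A R B B' := hpush.symm
  haveI : Algebra.FiniteType R B' :=
    Algebra.FiniteType.equiv (inferInstance : Algebra.FiniteType R (R ⊗[A] B))
      (Algebra.IsPushout.equiv A R B B')
  haveI : Module.Finite B' N' := Module.Finite.equiv hbc.equiv
  haveI : IsNoetherianRing B' := Algebra.FiniteType.isNoetherianRing R B'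
  haveI : IsNoetherianRing ((⊥ : Ideal R).Fiber B') :=
    Algebra.FiniteType.isNoetherianRing (⊥ : Ideal R).ResidueField _
  obtain ⟨hPp, x, hx⟩ := isAssociatedPrime_iff.1 hass
  obtain ⟨t₀, ht₀, n, hn⟩ := FibAssLib.exists_smul_eq_toFiber (S := B') (⊥ : Ideal R) x
  have hcolon : ∀ b : B', FlatCA.toFiberMod (⊥ : Ideal R) B' N' (b • n) = 0 ↔ b ∈ P := by
    intro b
    rw [map_smul, ← hn, FibAssLib.smul_eq, FibAssLib.smul_eq, smul_comm,
      (FibAssLib.isUnit_incl (⊥ : Ideal R) ht₀).smul_eq_zero]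
    constructor
    · intro hb
      refine (fiberIdeal_comap_eq (⊥ : Ideal R) P hPt).le ?_
      rw [Ideal.mem_comap, hx]
      exact Submodule.mem_colon_singleton.2 (by rw [hb]; exact Submodule.zero_mem _)
    · intro hb
      have : FibAssLib.incl B' (⊥ : Ideal R) b ∈ FlatCA.fiberIdeal (⊥ : Ideal R) P := Ideal.mem_map_of_mem _ hb
      rw [hx] at this
      simpa using Submodule.mem_colon_singleton.1 this
  have hkill : ∀ b ∈ P, ∃ r : R, r ≠ 0 ∧ r • (b • n) = 0 := by
    intro b hb
    have hβ : FibAssLib.β (⊥ : Ideal R) (Submodule.Quotient.mk (b • n) : FibAssLib.quot (S := B') N' (⊥ : Ideal R)) = 0 :=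
      (hcolon b).2 hb
    obtain ⟨r, hr, hrz⟩ := FibAssLib.exists_smul_eq_zero_of_β (⊥ : Ideal R) hβ
    refine ⟨r, hr, ?_⟩
    rw [← Submodule.Quotient.mk_smul, Submodule.Quotient.mk_eq_zero, Ideal.map_bot, Submodule.bot_smul,
      Submodule.mem_bot] at hrz
    exact hrz
  obtain ⟨g₁, hg₁, hg₁P⟩ : ∃ r : R, r ≠ 0 ∧ ∀ b ∈ P, r • (b • n) = 0 := by
    obtain ⟨s, hs⟩ := IsNoetherian.noetherian P
    choose r hr hrz using fun b : s => hkill b.1 (hs ▸ Submodule.subset_span b.2)
    refine ⟨∏ b, r b, Finset.prod_ne_zero_iff.2 fun b _ => hr b, fun b hb => ?_⟩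
    refine Submodule.span_induction (p := fun m _ => (∏ b, r b) • (m • n) = 0) (fun m hm => ?_)
      (by rw [zero_smul, smul_zero])
      (fun a b _ _ ha hb => by rw [add_smul, smul_add, ha, hb, add_zero])
      (fun c a _ ha => by rw [smul_eq_mul, mul_smul, smul_comm, ha, smul_zero]) (hs ▸ hb)
    obtain ⟨c, hc⟩ := Finset.dvd_prod_of_mem r (Finset.mem_univ (⟨m, hm⟩ : s))
    rw [hc, mul_comm, mul_smul, hrz ⟨m, hm⟩, smul_zero]
  let n₁ := g₁ • n
  let e : (B' ⧸ P) →ₗ[B'] N' := Submodule.liftQ P (LinearMap.toSpanSingleton B' N' n₁) fun b hb => by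
    rw [LinearMap.mem_ker, LinearMap.toSpanSingleton_apply, smul_comm]
    exact hg₁P b hb
  have he : Function.Injective e := LinearMap.ker_eq_bot.1 (Submodule.ker_liftQ_eq_bot _ _ _ fun b hb => by
    have hb' : b • n₁ = 0 := hb
    rw [show b • n₁ = algebraMap R B' g₁ • (b • n) by rw [algebraMap_smul, smul_comm]] at hb'
    have h2 := congrArg (FlatCA.toFiberMod (⊥ : Ideal R) B' N') hb'
    rw [map_zero, map_smul, FibAssLib.smul_eq, (FibAssLib.isUnit_incl (⊥ : Ideal R) (by simpa using hg₁)).smul_eq_zero] at h2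
    exact (hcolon b).1 h2)
  obtain ⟨g₂, hg₂, hfree₁, -⟩ := FlatLib.generic_freeness_fp (R := R) (S := B') (M := B' ⧸ P)
  obtain ⟨g₃, hg₃, hfree₂, -⟩ := FlatLib.generic_freeness_fp (R := R) (S := B') (M := N' ⧸ LinearMap.range e)
  refine ⟨g₁ * g₂ * g₃, mul_ne_zero (mul_ne_zero hg₁ hg₂) hg₃, fun q _ hgq hqt => ?_⟩
  have hg₂q : g₂ ∉ q := fun h => hgq (q.mul_mem_right _ (q.mul_mem_left _ h))
  have hg₃q : g₃ ∉ q := fun h => hgq (q.mul_mem_left _ h)
  let K := q.ResidueField
  have hu : ∀ g ∉ q, IsUnit (algebraMap R K g) := fun g hg =>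
    Ne.isUnit fun h0 => hg (Ideal.algebraMap_residueField_eq_zero.1 h0)
  let L₂ := Localization.Away g₂
  let L₃ := Localization.Away g₃
  letI : Algebra L₂ K := (IsLocalization.Away.lift g₂ (hu g₂ hg₂q) : L₂ →+* K).toAlgebra
  letI : Algebra L₃ K := (IsLocalization.Away.lift g₃ (hu g₃ hg₃q) : L₃ →+* K).toAlgebra
  haveI : IsScalarTower R L₂ K :=
    IsScalarTower.of_algebraMap_eq fun x => (IsLocalization.Away.lift_eq g₂ (hu g₂ hg₂q) x).symm
  haveI : IsScalarTower R L₃ K :=
    IsScalarTower.of_algebraMap_eq fun x => (IsLocalization.Away.lift_eq g₃ (hu g₃ hg₃q) x).symm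
  -- injectivity on the fibre
  have hinj : Function.Injective ((e.restrictScalars R).lTensor K) := by
    let eL := (e.restrictScalars R).baseChange L₃
    let πL := ((LinearMap.range e).mkQ.restrictScalars R).baseChange L₃
    have hex : Function.Exact eL πL := by
      rw [LinearMap.baseChange_eq_ltensor, LinearMap.baseChange_eq_ltensor]
      exact Module.Flat.lTensor_exact L₃ fun y => by simp
    have heL : Function.Injective eL := by
      rw [LinearMap.baseChange_eq_ltensor]
      exact Module.Flat.lTensor_preserves_injective_linearMap _ he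
    have hπL : Function.Surjective πL := by
      rw [LinearMap.baseChange_eq_ltensor]
      exact LinearMap.lTensor_surjective _ (Submodule.mkQ_surjective _)
    haveI := hfree₂
    obtain ⟨σ, hσ⟩ := Module.projective_lifting_property πL LinearMap.id hπL
    obtain ⟨r, hr⟩ : ∃ r, r ∘ₗ eL = LinearMap.id := by
      have hmem : ∀ y, y - σ (πL y) ∈ LinearMap.range eL := fun y =>
        (hex _).1 (by rw [map_sub, ← LinearMap.comp_apply πL σ, hσ, LinearMap.id_apply, sub_self])
      refine ⟨((LinearEquiv.ofInjective eL heL).symm.toLinearMap).comp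
        ((LinearMap.id - σ ∘ₗ πL).codRestrict (LinearMap.range eL) hmem), LinearMap.ext fun y => ?_⟩
      apply (LinearEquiv.ofInjective eL heL).injective
      rw [LinearMap.comp_apply, LinearMap.comp_apply, LinearEquiv.coe_coe, LinearEquiv.apply_symm_apply]
      refine Subtype.ext ?_
      show eL y - σ (πL (eL y)) = eL y
      rw [hex.apply_apply_eq_zero, map_zero, sub_zero]
    exact lTensor_injective_of_retract (e.restrictScalars R) r hr K
  haveI : Nontrivial (K ⊗[R] (B' ⧸ P)) := by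
    haveI := hfree₁
    have hR : Function.Injective (Algebra.linearMap R (B' ⧸ P)) := by
      rw [← LinearMap.ker_eq_bot, eq_bot_iff]
      intro r hr
      have hrP : algebraMap R B' r ∈ P := Ideal.Quotient.eq_zero_iff_mem.1 hr
      exact (SetLike.ext_iff.1 hPt.over r).2 hrP
    haveI : Nontrivial L₂ := (IsLocalization.injective L₂
      (powers_le_nonZeroDivisors_of_noZeroDivisors hg₂)).nontrivial
    haveI : Nontrivial (L₂ ⊗[R] R) := (TensorProduct.rid R L₂).symm.injective.nontrivial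
    haveI : Nontrivial (L₂ ⊗[R] (B' ⧸ P)) :=
      (Module.Flat.lTensor_preserves_injective_linearMap (M := L₂) _ hR).nontrivial
    haveI : Module.FaithfullyFlat L₂ (L₂ ⊗[R] (B' ⧸ P)) := inferInstance
    haveI : Nontrivial (K ⊗[L₂] (L₂ ⊗[R] (B' ⧸ P))) := inferInstance
    exact (TensorProduct.AlgebraTensorModule.cancelBaseChange R L₂ L₂ K (B' ⧸ P)).injective.nontrivial
  -- the fibre module
  letI : Algebra B' (q.Fiber B') := Algebra.TensorProduct.rightAlgebra
  haveI : IsNoetherianRing (q.Fiber B') := Algebra.FiniteType.isNoetherianRing q.ResidueField _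
  let EP := Algebra.IsPushout.cancelBaseChange R K B' (q.Fiber B') (B' ⧸ P)
  let EN := Algebra.IsPushout.cancelBaseChange R K B' (q.Fiber B') N'
  let Φ : (q.Fiber B') ⊗[B'] (B' ⧸ P) →ₗ[q.Fiber B'] (q.Fiber B') ⊗[B'] N' :=
    TensorProduct.AlgebraTensorModule.map LinearMap.id e
  have hsq : ∀ w, Φ (EP.symm w) = EN.symm ((e.restrictScalars R).lTensor K w) := fun w => by
    induction w using TensorProduct.induction_on with
    | zero => simp
    | add x y hx hy => simp only [map_add, hx, hy]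
    | tmul c m =>
      rw [LinearMap.lTensor_tmul, Algebra.IsPushout.cancelBaseChange_symm_tmul,
        Algebra.IsPushout.cancelBaseChange_symm_tmul]
      exact TensorProduct.AlgebraTensorModule.map_tmul _ _ _ _
  have hΦ : Function.Injective Φ := fun a b hab => by
    obtain ⟨a, rfl⟩ := EP.symm.surjective a
    obtain ⟨b, rfl⟩ := EP.symm.surjective b
    rw [hsq, hsq] at hab
    rw [hinj (EN.symm.injective hab)]
  haveI : Nontrivial ((q.Fiber B') ⊗[B'] (B' ⧸ P)) := EP.toEquiv.nontrivial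
  obtain ⟨Q, hQ⟩ := associatedPrimes.nonempty (q.Fiber B') ((q.Fiber B') ⊗[B'] (B' ⧸ P))
  haveI := hQ.1
  have hQP : P ≤ Q.comap (FibAssLib.incl B' q) := fun b hb => by
    refine IsAssociatedPrime.annihilator_le hQ (Submodule.mem_annihilator.2 fun z _ => ?_)
    induction z using TensorProduct.induction_on with
    | zero => exact smul_zero _
    | add x y hx hy => rw [smul_add, hx Submodule.mem_top, hy Submodule.mem_top, add_zero]
    | tmul c m =>
      rw [show FibAssLib.incl B' q b = algebraMap B' (q.Fiber B') b from rfl, algebraMap_smul,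
        TensorProduct.smul_tmul', TensorProduct.smul_tmul]
      obtain ⟨m, rfl⟩ := Submodule.mkQ_surjective _ m
      rw [← map_smul, Submodule.mkQ_apply, (Submodule.Quotient.mk_eq_zero P).2 (show b • m ∈ P from P.mul_mem_right _ hb), tmul_zero]
  haveI := liesOver_comap_incl q Q
  intro hno'
  refine hno' B' N' f (Q.comap (FibAssLib.incl B' q))
    ⟨inferInstance, hbc, hqt, hto, inferInstance, ?_, fun P' _ hle => hno P' (hQP.trans hle)⟩
  rw [fiberIdeal_comap]
  exact hQ.map_of_injective Φ hΦ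

theorem quasiFiniteAt_of_fibre {R : Type u} [CommRing R] [Algebra A R] [Algebra.FiniteType A R] (t : Ideal R)
    [t.IsPrime] [t.LiesOver p] (hmax : (FlatCA.fiberIdeal p t).IsMaximal)
    (hmin : ∀ m : Ideal R, m.IsPrime → m.LiesOver p → m ≤ t → m = t) : Algebra.QuasiFiniteAt A t := by
  haveI := hmax
  haveI : IsNoetherianRing (p.Fiber R) := Algebra.FiniteType.isNoetherianRing p.ResidueField _
  let Q := FlatCA.fiberIdeal p t
  have hQ : Q.comap (FibAssLib.incl R p) = t := fiberIdeal_comap_eq p t inferInstance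
  have hQmin : ∀ M : Ideal (p.Fiber R), M.IsPrime → M ≤ Q → M = Q := fun M hM hle => by
    rw [← fiberIdeal_comap p M, hmin _ inferInstance (liesOver_comap_incl p M) (hQ ▸ Ideal.comap_mono hle)]
  have hopen : IsOpen ({⟨Q, hmax.isPrime⟩} : Set (PrimeSpectrum (p.Fiber R))) := by
    rw [← isClosed_compl_iff]
    have : ({⟨Q, hmax.isPrime⟩}ᶜ : Set (PrimeSpectrum (p.Fiber R))) =
        ⋃ M ∈ {M ∈ minimalPrimes (p.Fiber R) | M ≠ Q}, PrimeSpectrum.zeroLocus (M : Set (p.Fiber R)) := by
      ext z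
      simp only [Set.mem_compl_iff, Set.mem_singleton_iff, Set.mem_iUnion, Set.mem_setOf_eq, PrimeSpectrum.mem_zeroLocus,
        SetLike.coe_subset_coe, exists_prop]
      constructor
      · intro hz
        obtain ⟨M, hM, hMz⟩ := Ideal.exists_minimalPrimes_le (I := (⊥ : Ideal (p.Fiber R))) (J := z.asIdeal) bot_le
        refine ⟨M, ⟨hM, fun h => hz (PrimeSpectrum.ext ?_)⟩, hMz⟩
        exact (hmax.eq_of_le z.2.ne_top (h.symm.le.trans hMz)).symm
      · rintro ⟨M, ⟨hM, hne⟩, hMz⟩ rfl
        exact hne (hQmin M hM.1.1 hMz)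
    rw [this]
    exact Set.Finite.isClosed_biUnion ((minimalPrimes.finite_of_isNoetherianRing (p.Fiber R)).subset fun M h => h.1)
      fun M _ => PrimeSpectrum.isClosed_zeroLocus _
  haveI : Algebra.QuasiFiniteAt p.ResidueField Q := .of_isOpen_singleton ⟨Q, hmax.isPrime⟩ hopen
  exact .of_quasiFiniteAt_residueField p t Q hQ

/-- Krull: in a Noetherian domain with `g ≠ 0` lying in all nonzero primes below `t`, there is nothing between. -/
theorem eq_of_forall_mem {R : Type u} [CommRing R] [IsDomain R] [IsNoetherianRing R] (t : Ideal R) [t.IsPrime]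
    {g : R} (hg : g ≠ 0) (hall : ∀ m : Ideal R, m.IsPrime → m ≠ ⊥ → m ≤ t → g ∈ m)
    (m : Ideal R) [m.IsPrime] (hm : m ≠ ⊥) (hle : m ≤ t) : m = t := by
  classical
  by_contra hne
  obtain ⟨M₀, hM₀, hM₀m⟩ := Ideal.exists_minimalPrimes_le (I := Ideal.span {g}) (J := m)
    ((Ideal.span_singleton_le_iff_mem _).2 (hall m inferInstance hm hle))
  have hfin : (Ideal.span {g}).minimalPrimes.Finite := Ideal.finite_minimalPrimes_of_isNoetherianRing R _
  let T := hfin.toFinset.filter (· ≤ t)
  obtain ⟨x, hxt, hx⟩ : ∃ x ∈ t, ∀ M ∈ T, x ∉ M := by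
    by_contra! hno
    obtain ⟨M, hM, htM⟩ := (Ideal.subset_union_prime (s := T) (f := id) t t
      fun M hM _ _ => ((hfin.mem_toFinset.1 (Finset.mem_filter.1 hM).1)).1.1).1 (fun x hx => by
        obtain ⟨M, hM, hxM⟩ := hno x hx
        exact Set.mem_biUnion hM hxM)
    rw [Finset.mem_filter, hfin.mem_toFinset] at hM
    have hMt : M = t := le_antisymm hM.2 htM
    exact hne (le_antisymm hle (hMt ▸ hM.1.2 ⟨inferInstance, (Ideal.span_singleton_le_iff_mem _).2
      (hall m inferInstance hm hle)⟩ (hMt ▸ hle)))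
  obtain ⟨Qx, hQx, hQxt⟩ := Ideal.exists_minimalPrimes_le (I := Ideal.span {x}) (J := t)
    ((Ideal.span_singleton_le_iff_mem _).2 hxt)
  haveI := hQx.1.1
  have hx0 : x ≠ 0 := fun h0 => hx M₀ (Finset.mem_filter.2 ⟨hfin.mem_toFinset.2 hM₀, hM₀m.trans hle⟩)
    (by rw [h0]; exact M₀.zero_mem)
  have hQ0 : Qx ≠ ⊥ := fun h0 => hx0 (by
    have : x ∈ Qx := hQx.1.2 (Ideal.mem_span_singleton_self x)
    rwa [h0, Ideal.mem_bot] at this)
  obtain ⟨M, hM, hMQ⟩ := Ideal.exists_minimalPrimes_le (I := Ideal.span {g}) (J := Qx)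
    ((Ideal.span_singleton_le_iff_mem _).2 (hall Qx inferInstance hQ0 hQxt))
  haveI := hM.1.1
  have hlt : M < Qx := lt_of_le_of_ne hMQ fun h =>
    hx M (Finset.mem_filter.2 ⟨hfin.mem_toFinset.2 hM, hMQ.trans hQxt⟩) (h ▸ hQx.1.2 (Ideal.mem_span_singleton_self x))
  have hM0 : (⊥ : Ideal R) < M := bot_lt_iff_ne_bot.2 fun h0 => hg (by
    have : g ∈ M := hM.1.2 (Ideal.mem_span_singleton_self g)
    rwa [h0, Ideal.mem_bot] at this)
  haveI : (⊥ : Ideal R).IsPrime := Ideal.isPrime_bot
  have h1 : Qx.height ≤ 1 := Ideal.height_le_one_of_isPrincipal_of_mem_minimalPrimes _ _ hQx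
  have h2 := Ideal.height_strict_mono_of_isPrime_of_isPrime hlt
  have h3 := Ideal.height_strict_mono_of_isPrime_of_isPrime hM0
  rw [Ideal.height_bot] at h3
  exact absurd ((Order.one_le_iff_pos.2 h3).trans_lt h2) (not_lt.2 h1)

theorem hasImpurity_quasiFinite [IsNoetherianRing A] (h : FlatCA.HasImpurity A B N p (fun _ _ _ _ => True)) :
    FlatCA.HasImpurity A B N p (fun A' _ _ t => ∃ _ : t.IsPrime, Algebra.FiniteType A A' ∧ Algebra.QuasiFiniteAt A t) := by
  classical
  by_contra hne
  obtain ⟨A₀, B₀, N₀, _, _, _, _, _, _, _, _, _, _, _, _, _, _, f₀, t₀', t₀, _, _, P₀, _, himp₀, hfp, hmax₀⟩ :=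
    hasImpurity_fp_closedPoint h
  haveI := hfp
  haveI : t₀.LiesOver p := himp₀.2.2.2.1
  haveI : Algebra.FiniteType A A₀ := inferInstance
  -- passing to a quotient domain
  have step : ∀ (I : Ideal A₀) [I.IsPrime], I ≤ t₀ → (t₀.map (Ideal.Quotient.mk I)).IsPrime ∧
      (t₀.map (Ideal.Quotient.mk I)).comap (Ideal.Quotient.mk I) = t₀ ∧
      (FlatCA.fiberIdeal p (t₀.map (Ideal.Quotient.mk I))).IsMaximal := by
    intro I _ hI
    have hk : RingHom.ker (Ideal.Quotient.mk I) ≤ t₀ := by rwa [Ideal.mk_ker]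
    refine ⟨Ideal.map_isPrime_of_surjective Ideal.Quotient.mk_surjective hk, ?_, ?_⟩
    · rw [Ideal.comap_map_of_surjective' _ Ideal.Quotient.mk_surjective, sup_eq_left.2 hk]
    · let φ := fiberHom A₀ (A₀ ⧸ I) p
      have hφ : Function.Surjective φ :=
        Algebra.TensorProduct.map_surjective _ _ Function.surjective_id Ideal.Quotient.mk_surjective
      have hmap : (FlatCA.fiberIdeal p t₀).map φ.toRingHom = FlatCA.fiberIdeal p (t₀.map (Ideal.Quotient.mk I)) := by
        rw [FlatCA.fiberIdeal, FlatCA.fiberIdeal, Ideal.map_map, Ideal.map_map]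
        exact congrArg (fun g => Ideal.map g t₀) (RingHom.ext fun s => Algebra.TensorProduct.map_tmul _ _ _ _)
      rw [← hmap]
      refine (Ideal.map_eq_top_or_isMaximal_of_surjective φ.toRingHom hφ hmax₀).resolve_left fun htop => ?_
      rw [hmap, Ideal.eq_top_iff_one] at htop
      haveI := Ideal.map_isPrime_of_surjective Ideal.Quotient.mk_surjective hk
      have hT : (t₀.map (Ideal.Quotient.mk I)).LiesOver p := ⟨by
        rw [Ideal.under_def, IsScalarTower.algebraMap_eq A A₀ (A₀ ⧸ I), ← Ideal.comap_comap,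
          show algebraMap A₀ (A₀ ⧸ I) = Ideal.Quotient.mk I from rfl,
          Ideal.comap_map_of_surjective' _ Ideal.Quotient.mk_surjective, sup_eq_left.2 hk]
        exact Ideal.over_def t₀ p⟩
      have h1 := mem_of_includeRight_mem p _ hT (k := 1) (by rw [map_one]; exact htop)
      exact (Ideal.IsPrime.ne_top inferInstance) ((Ideal.eq_top_iff_one _).2 h1)
  -- the generic point of the first domain
  have hle₀ : t₀' ≤ t₀ := himp₀.2.2.1
  obtain ⟨hp₁, hc₁, -⟩ := step t₀' hle₀
  haveI := hp₁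
  haveI : (⊥ : Ideal (A₀ ⧸ t₀')).IsPrime := Ideal.isPrime_bot
  haveI : (⊥ : Ideal (A₀ ⧸ t₀')).LiesOver t₀' := ⟨(Ideal.mk_ker).symm⟩
  haveI : (t₀.map (Ideal.Quotient.mk t₀')).LiesOver t₀ := ⟨hc₁.symm⟩
  refine impurity_ascend himp₀ (⊥ : Ideal (A₀ ⧸ t₀')) (t₀.map (Ideal.Quotient.mk t₀')) bot_le ?_
  intro B₁ N₁ _ _ _ _ _ _ _ _ _ _ _ _ f₁ P₁ _ himp₁
  haveI : IsNoetherianRing A₀ := Algebra.FiniteType.isNoetherianRing A A₀
  obtain ⟨g, hg, hgen⟩ := exists_ne_zero_forall_impurity himp₁
  -- a maximal specialisation avoiding `g`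
  obtain ⟨q, ⟨hq, hqt, hgq⟩, hqmax⟩ := set_has_maximal_iff_noetherian.2 (inferInstance : IsNoetherian (A₀ ⧸ t₀') (A₀ ⧸ t₀'))
    {q : Ideal (A₀ ⧸ t₀') | q.IsPrime ∧ q ≤ t₀.map (Ideal.Quotient.mk t₀') ∧ g ∉ q}
    ⟨⊥, Ideal.isPrime_bot, bot_le, by simpa using hg⟩
  haveI := hq
  refine hgen q hgq hqt ?_
  intro B₂ N₂ _ _ _ _ _ _ _ _ _ _ _ _ f₂ P₂ _ himp₂
  let I : Ideal A₀ := Ideal.comap (Ideal.Quotient.mk t₀') q
  obtain ⟨hp₃, hc₃, hmax₃⟩ := step I (hc₁ ▸ Ideal.comap_mono hqt)
  haveI := hp₃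
  let R := A₀ ⧸ I
  let u := t₀.map (Ideal.Quotient.mk I)
  have hIle : t₀' ≤ I := fun x hx => by
    show Ideal.Quotient.mk t₀' x ∈ q
    rw [Ideal.Quotient.eq_zero_iff_mem.2 hx]; exact q.zero_mem
  letI : Algebra (A₀ ⧸ t₀') R := (Ideal.Quotient.factor hIle).toAlgebra
  haveI : IsScalarTower A₀ (A₀ ⧸ t₀') R := IsScalarTower.of_algebraMap_eq fun x => rfl
  haveI : IsScalarTower A (A₀ ⧸ t₀') R := IsScalarTower.of_algebraMap_eq fun x => rfl
  haveI : u.LiesOver (t₀.map (Ideal.Quotient.mk t₀')) := ⟨by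
    rw [Ideal.under_def, eq_comm, ← Ideal.map_comap_of_surjective _ (Ideal.Quotient.mk_surjective (I := t₀'))
      (u.comap (algebraMap (A₀ ⧸ t₀') R)), Ideal.comap_comap]
    exact congrArg (Ideal.map (Ideal.Quotient.mk t₀')) hc₃⟩
  haveI : (⊥ : Ideal R).IsPrime := Ideal.isPrime_bot
  haveI : (⊥ : Ideal R).LiesOver q := ⟨by
    rw [Ideal.under_def, eq_comm, ← Ideal.map_comap_of_surjective _ (Ideal.Quotient.mk_surjective (I := t₀'))
      ((⊥ : Ideal R).comap (algebraMap (A₀ ⧸ t₀') R)), Ideal.comap_comap]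
    rw [show ((algebraMap (A₀ ⧸ t₀') R).comp (Ideal.Quotient.mk t₀')) = Ideal.Quotient.mk I from rfl,
      ← RingHom.ker_eq_comap_bot, Ideal.mk_ker, Ideal.map_comap_of_surjective _ Ideal.Quotient.mk_surjective]⟩
  haveI := himp₂.2.2.2.1
  haveI : u.LiesOver p := Ideal.LiesOver.trans u (t₀.map (Ideal.Quotient.mk t₀')) p
  refine impurity_ascend himp₂ (⊥ : Ideal R) u bot_le ?_
  by_cases h0 : (⊥ : Ideal R).LiesOver p
  · exact noImp_of_both_over u h0
  · refine fun B₃ N₃ _ _ _ _ _ _ _ _ _ _ _ _ f₃ P₃ _ himp₃ => hne (isImpurity_hasImpurity (fun hn => hn B₃ N₃ f₃ P₃ himp₃) _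
      ⟨inferInstance, inferInstance, quasiFiniteAt_of_fibre (p := p) u hmax₃ fun m hm hmp hmu => ?_⟩)
    have hbar : algebraMap (A₀ ⧸ t₀') R g ≠ 0 := fun h => hgq (by
      obtain ⟨g, rfl⟩ := Ideal.Quotient.mk_surjective g
      exact (Ideal.Quotient.eq_zero_iff_mem (I := I)).1 h)
    have hm0 : m ≠ ⊥ := fun h => h0 (h ▸ hmp)
    haveI := hm
    refine eq_of_forall_mem u hbar (fun M hM hM0 hMu => ?_) m hm0 hmu
    by_contra hgM
    haveI := hM
    refine hqmax (M.comap (algebraMap (A₀ ⧸ t₀') R)) ⟨inferInstance,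
      by rw [Ideal.over_def u (t₀.map (Ideal.Quotient.mk t₀'))]; exact Ideal.comap_mono hMu, hgM⟩
      (lt_of_le_of_ne (by rw [Ideal.over_def (⊥ : Ideal R) q]; exact Ideal.comap_mono bot_le) fun h => hM0 ?_)
    have hs : Function.Surjective (algebraMap (A₀ ⧸ t₀') R) := Ideal.Quotient.factor_surjective hIle
    rw [← Ideal.map_comap_of_surjective _ hs M, ← h, Ideal.over_def (⊥ : Ideal R) q, Ideal.under_def,
      Ideal.map_comap_of_surjective _ hs]

end GeomPureLib
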