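import Groth.Agent.GeomPureLib.Impurity.Basic
import Mathlib.RingTheory.Etale.QuasiFinite
import Mathlib.RingTheory.Ideal.GoingUp

/-!
# From quasi-finite base changes to étale neighbourhoods
-/

set_option autoImplicit false
set_option backward.isDefEq.respectTransparency false
set_option linter.style.haveILetI false
set_option linter.unusedSectionVars false

universe u

open TensorProduct

noncomputable section

namespace GeomPureLib

variable {A B : Type u} [CommRing A] [CommRing B] [Algebra A B] [Algebra.FiniteType A B] {N : Type u} [AddCommGroup N]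
  [Module B N] [Module.Finite B N] {p : Ideal A} [p.IsPrime]

/-- Impurities descend along an integral extension with a single point above the closed one. -/
theorem impurity_descend_integral {A₁ C : Type u} [CommRing A₁] [CommRing C] [Algebra A A₁] [Algebra A C] [Algebra A₁ C]
    [IsScalarTower A A₁ C] [Algebra.IsIntegral A₁ C] {BC NC : Type u} [CommRing BC] [Algebra B BC] [Algebra C BC]
    [Algebra A BC] [IsScalarTower A B BC] [IsScalarTower A C BC] [AddCommGroup NC] [Module BC NC] [Module B NC]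
    [IsScalarTower B BC NC] [Module C NC] [IsScalarTower C BC NC] {f : N →ₗ[B] NC} {u' u : Ideal C} [u'.IsPrime]
    [u.IsPrime] {P : Ideal BC} [P.IsPrime] (himp : FlatCA.IsImpurity A B N p C BC NC f u' u P)
    (t : Ideal A₁) [t.IsPrime] [t.LiesOver p] [u.LiesOver t]
    (huniq : ∀ u₁ : Ideal C, u₁.IsPrime → u₁.LiesOver t → u₁ = u) :
    ¬ NoImp A B N p A₁ (u'.comap (algebraMap A₁ C)) t := by
  have himp' := himp
  obtain ⟨hpush, hbc, htt, -, hPt, hass, hno⟩ := himp'
  haveI := hpush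
  haveI : Algebra.IsPushout A C B BC := hpush.symm
  letI : Algebra A₁ BC := ((algebraMap C BC).comp (algebraMap A₁ C)).toAlgebra
  haveI : IsScalarTower A₁ C BC := IsScalarTower.of_algebraMap_eq' rfl
  haveI : IsScalarTower A A₁ BC := IsScalarTower.of_algebraMap_eq fun x => by
    rw [IsScalarTower.algebraMap_apply A₁ C BC, ← IsScalarTower.algebraMap_apply A A₁ C,
      ← IsScalarTower.algebraMap_apply A C BC]
  haveI : u'.LiesOver (u'.comap (algebraMap A₁ C)) := ⟨rfl⟩
  refine impurity_descend_of_forall himp (u'.comap (algebraMap A₁ C)) t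
    (by rw [Ideal.over_def u t]; exact Ideal.comap_mono htt) ?_
  intro P' hP' hle hlies
  letI : Algebra B (A₁ ⊗[A] B) := Algebra.TensorProduct.rightAlgebra
  letI : Algebra (A₁ ⊗[A] B) BC := (bcHom (A := A) (B := B) BC).toRingHom.toAlgebra
  haveI : IsScalarTower A₁ (A₁ ⊗[A] B) BC :=
    IsScalarTower.of_algebraMap_eq fun x => ((bcHom (A := A) (B := B) BC).commutes x).symm
  haveI : IsScalarTower B (A₁ ⊗[A] B) BC := IsScalarTower.of_algebraMap_eq fun b => by
    show _ = bcHom (A := A) (B := B) BC (1 ⊗ₜ b)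
    rw [bcHom_tmul, map_one, one_mul]
  haveI : IsScalarTower A (A₁ ⊗[A] B) BC := IsScalarTower.of_algebraMap_eq fun x => by
    rw [IsScalarTower.algebraMap_apply A A₁ (A₁ ⊗[A] B), ← IsScalarTower.algebraMap_apply A₁ (A₁ ⊗[A] B) BC,
      ← IsScalarTower.algebraMap_apply A A₁ BC]
  haveI : Algebra.IsPushout A₁ C (A₁ ⊗[A] B) BC :=
    (Algebra.IsPushout.comp_iff (R := A) (S := A₁) (R' := B) (S' := A₁ ⊗[A] B) (T := C) (T' := BC)).1 inferInstance
  haveI : Algebra.IsPushout A₁ (A₁ ⊗[A] B) C BC := Algebra.IsPushout.symm inferInstance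
  haveI : Algebra.IsIntegral (A₁ ⊗[A] B) BC := by
    haveI : Algebra.IsIntegral (A₁ ⊗[A] B) ((A₁ ⊗[A] B) ⊗[A₁] C) := inferInstance
    exact Algebra.IsIntegral.of_surjective (Algebra.IsPushout.equiv A₁ (A₁ ⊗[A] B) C BC).toAlgHom
      (Algebra.IsPushout.equiv A₁ (A₁ ⊗[A] B) C BC).surjective
  obtain ⟨Q, hPQ, hQp, hQ⟩ := Ideal.exists_ideal_over_prime_of_isIntegral P' P hle
  haveI := hQp
  refine hno Q hPQ ⟨(huniq _ (Ideal.IsPrime.comap _) ⟨?_⟩).symm⟩
  rw [Ideal.under_def, Ideal.comap_comap, ← IsScalarTower.algebraMap_eq, IsScalarTower.algebraMap_eq A₁ (A₁ ⊗[A] B) BC,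
    ← Ideal.comap_comap, hQ]
  exact hlies.over

theorem hasImpurity_etaleNhd_of_quasiFinite
    (h : FlatCA.HasImpurity A B N p (fun A' _ _ t => ∃ _ : t.IsPrime, Algebra.FiniteType A A' ∧ Algebra.QuasiFiniteAt A t)) :
    FlatCA.HasImpurity A B N p (fun A' _ _ t => ∃ _ : t.IsPrime, FlatCA.IsEtaleNhd A A' p t) := by
  classical
  obtain ⟨A', B', N', _, _, _, _, _, _, _, _, _, _, _, _, _, _, f, t', t, _, _, P, _, himp, _, hft, hqf⟩ := h
  haveI := hft
  haveI := hqf
  haveI hto : t.LiesOver p := himp.2.2.2.1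
  obtain ⟨A₁, _, _, hEt, t₁, _, _, e, he, P', _, _, hP't, heP, hres, hfin, huniq⟩ :=
    Algebra.exists_etale_isIdempotentElem_forall_liesOver_eq p t
  haveI := hEt
  haveI := hfin
  letI : Algebra A' (A₁ ⊗[A] A') := Algebra.TensorProduct.rightAlgebra
  haveI : Module.Flat A' (A₁ ⊗[A] A') := Module.Flat.isBaseChange A A' A₁ (A₁ ⊗[A] A')
    (Algebra.IsPushout.out (R := A) (S := A') (R' := A₁) (S' := A₁ ⊗[A] A'))
  let C := Localization.Away e
  haveI : Module.Flat (A₁ ⊗[A] A') C := IsLocalization.flat C (Submonoid.powers e)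
  haveI : Module.Flat A' C := Module.Flat.trans A' (A₁ ⊗[A] A') C
  have hdisj : Disjoint (Submonoid.powers e : Set (A₁ ⊗[A] A')) (P' : Set (A₁ ⊗[A] A')) := by
    rw [Set.disjoint_left]
    rintro _ ⟨n, rfl⟩ hn
    exact heP (Ideal.IsPrime.mem_of_pow_mem inferInstance n hn)
  let u := P'.map (algebraMap (A₁ ⊗[A] A') C)
  haveI : u.IsPrime := IsLocalization.isPrime_of_isPrime_disjoint (Submonoid.powers e) C P' inferInstance hdisj
  have hu : u.comap (algebraMap (A₁ ⊗[A] A') C) = P' :=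
    IsLocalization.under_map_of_isPrime_disjoint (Submonoid.powers e) C inferInstance hdisj
  haveI : u.LiesOver t := ⟨by
    rw [Ideal.under_def, IsScalarTower.algebraMap_eq A' (A₁ ⊗[A] A') C, ← Ideal.comap_comap, hu]
    exact hP't.symm⟩
  haveI : u.LiesOver t₁ := ⟨by
    rw [Ideal.under_def, IsScalarTower.algebraMap_eq A₁ (A₁ ⊗[A] A') C, ← Ideal.comap_comap, hu]
    exact Ideal.over_def P' t₁⟩
  obtain ⟨u', hu'le, hu'p, hu'o⟩ := Ideal.exists_ideal_le_liesOver_of_le (p := t') (q := t) u himp.2.2.1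
  haveI := hu'p
  haveI := hu'o
  by_contra hne
  refine impurity_ascend himp u' u hu'le ?_
  intro BC NC _ _ _ _ _ _ _ _ _ _ _ _ g Q _ himp₁
  refine hne (isImpurity_hasImpurity (impurity_descend_integral himp₁ t₁ fun u₁ hu₁ hu₁o => ?_) _
    ⟨inferInstance, hEt, inferInstance, hres⟩)
  haveI := hu₁
  have hne' : e ∉ u₁.comap (algebraMap (A₁ ⊗[A] A') C) := fun hmem =>
    hu₁.ne_top (Ideal.eq_top_of_isUnit_mem _ hmem (IsLocalization.Away.algebraMap_isUnit e))
  have h1 := huniq (u₁.comap (algebraMap (A₁ ⊗[A] A') C)) inferInstance ⟨by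
    rw [Ideal.under_def, Ideal.comap_comap, ← IsScalarTower.algebraMap_eq]; exact hu₁o.over⟩ hne'
  rw [show u = P'.map (algebraMap (A₁ ⊗[A] A') C) from rfl, ← h1]
  exact (IsLocalization.map_under (Submonoid.powers e) C u₁).symm

end GeomPureLib
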